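import Groth.Agent.PicBC5.DegZero
import Groth.Agent.EllGrp5.Abel
import Groth.Agent.RigDesc27.Points
import Groth.Agent.JacAJ27.Effective
import Groth.Agent.AbDualLib.Basic
import Groth.Agent.AbSchLib.SmoothReduced
import Groth.Agent.AbVarLib.GeomIntegralSmooth
import Groth.Agent.S12413
import Mathlib.AlgebraicGeometry.AlgClosed.Basic

/-!
# The degree zero part of `Pic` is dominated by a power of the curve
-/

set_option autoImplicit false
set_option backward.isDefEq.respectTransparency.types false
set_option linter.style.haveILetI false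
set_option maxHeartbeats 1000000

universe u

open CategoryTheory CategoryTheory.Limits AlgebraicGeometry MonoidalCategory CartesianMonoidalCategory
open Groth.Agent.PicLib Groth.Agent.EllGrp5

namespace Groth.Agent.PicBC5

variable {X S : Scheme.{u}} (f : X ⟶ S)

/-- Powers of the family. -/
noncomputable def Pw : ℕ → Over S
  | 0 => Over.mk (𝟙 S)
  | n + 1 => Over.mk f ⊗ Pw n

/-- The projections. -/
noncomputable def proj : (n : ℕ) → Fin n → (Pw f n ⟶ Over.mk f)
  | 0 => fun i => i.elim0
  | n + 1 => Fin.cons (fst (Over.mk f) (Pw f n)) fun i => snd (Over.mk f) (Pw f n) ≫ proj n i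

/-- Tuples of points. -/
noncomputable def tuple {T : Over S} : (n : ℕ) → (Fin n → (T ⟶ Over.mk f)) → (T ⟶ Pw f n)
  | 0, _ => Over.homMk T.hom (Category.comp_id _)
  | n + 1, x => lift (x 0) (tuple n fun i => x i.succ)

theorem tuple_proj {T : Over S} : ∀ (n : ℕ) (x : Fin n → (T ⟶ Over.mk f)) (i : Fin n),
    tuple f n x ≫ proj f n i = x i
  | 0, _, i => i.elim0
  | n + 1, x, i => by
    refine Fin.cases ?_ (fun i => ?_) i
    · show lift (x 0) _ ≫ fst _ _ = _
      rw [lift_fst]
    · show lift (x 0) _ ≫ snd _ _ ≫ proj f n i = _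
      rw [lift_snd_assoc, tuple_proj n _ i]

theorem isProper_Pw [IsProper f] : ∀ n, IsProper (Pw f n).hom
  | 0 => inferInstanceAs (IsProper (𝟙 S))
  | n + 1 => by
    haveI := isProper_Pw n
    exact inferInstanceAs (IsProper (pullback.fst f (Pw f n).hom ≫ f))

theorem geometricallyConnected_id (S : Scheme.{u}) : GeometricallyConnected (𝟙 S) :=
  ⟨fun K _ y Z fst snd h => by
    haveI : IsIso snd := h.isIso_snd_of_isIso
    exact snd.homeomorph.symm.surjective.connectedSpace snd.homeomorph.symm.continuous⟩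

theorem geometricallyConnected_Pw [Flat f] [LocallyOfFinitePresentation f] [GeometricallyConnected f] :
    ∀ n, GeometricallyConnected (Pw f n).hom ∧ Flat (Pw f n).hom ∧ LocallyOfFinitePresentation (Pw f n).hom
  | 0 => ⟨geometricallyConnected_id S, inferInstanceAs (Flat (𝟙 S)),
      inferInstanceAs (LocallyOfFinitePresentation (𝟙 S))⟩
  | n + 1 => by
    obtain ⟨h1, h2, h3⟩ := geometricallyConnected_Pw n
    exact ⟨GeometricallyConnected.comp (pullback.fst f (Pw f n).hom) f,
      inferInstanceAs (Flat (pullback.fst f (Pw f n).hom ≫ f)),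
      inferInstanceAs (LocallyOfFinitePresentation (pullback.fst f (Pw f n).hom ≫ f))⟩

variable [IsProper f] [SmoothOfRelativeDimension 1 f] [GeometricallyConnected f]
  (σ : S ⟶ X) (hσ : σ ≫ f = 𝟙 S)
  {P : Over S} (φ : ∀ T : Over S, PicF.Cl (PicF.XT f T) → (T ⟶ P))

/-- The class `O(n σ - Σ xᵢ)`. -/
noncomputable def sumCls (n : ℕ) {T : Over S} (x : Fin n → (T ⟶ Over.mk f)) : PicM (PicF.XT f T) :=
  (∏ i, cls f (x i)) * (PicM.exists_mul_eq_one (cls f (one' f σ hσ T))).choose ^ n

theorem dg_pow (T : Over S) (t : T.left) (a : PicM (PicF.XT f T)) :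
    ∀ n : ℕ, dg (pullback.snd f T.hom) t (a ^ n) = n * dg (pullback.snd f T.hom) t a
  | 0 => by
    haveI := smoothOfRelativeDimension_isStableUnderBaseChange.{u} 1
    haveI : SmoothOfRelativeDimension 1 (pullback.snd f T.hom) :=
      MorphismProperty.pullback_snd (P := @SmoothOfRelativeDimension 1) _ _ inferInstance
    rw [pow_zero, dg_one]; simp
  | n + 1 => by
    haveI := smoothOfRelativeDimension_isStableUnderBaseChange.{u} 1
    haveI : SmoothOfRelativeDimension 1 (pullback.snd f T.hom) :=
      MorphismProperty.pullback_snd (P := @SmoothOfRelativeDimension 1) _ _ inferInstance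
    rw [pow_succ, dg_mul, dg_pow T t a n]
    push_cast; ring

theorem dg_prod_cls (T : Over S) (t : T.left) : ∀ (n : ℕ) (x : Fin n → (T ⟶ Over.mk f)),
    dg (pullback.snd f T.hom) t (∏ i, cls f (x i)) = -(n : ℤ)
  | 0, _ => by
    haveI := smoothOfRelativeDimension_isStableUnderBaseChange.{u} 1
    haveI : SmoothOfRelativeDimension 1 (pullback.snd f T.hom) :=
      MorphismProperty.pullback_snd (P := @SmoothOfRelativeDimension 1) _ _ inferInstance
    rw [Fin.prod_univ_zero, dg_one]; simp
  | n + 1, x => by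
    haveI := smoothOfRelativeDimension_isStableUnderBaseChange.{u} 1
    haveI : SmoothOfRelativeDimension 1 (pullback.snd f T.hom) :=
      MorphismProperty.pullback_snd (P := @SmoothOfRelativeDimension 1) _ _ inferInstance
    rw [Fin.prod_univ_succ, dg_mul, dg_cls, dg_prod_cls T t n]
    push_cast; ring

theorem dg_sumCls (n : ℕ) {T : Over S} (x : Fin n → (T ⟶ Over.mk f)) (t : T.left) :
    dg (PicF.XTproj f T) t (sumCls f σ hσ n x) = 0 := by
  haveI := smoothOfRelativeDimension_isStableUnderBaseChange.{u} 1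
  haveI : SmoothOfRelativeDimension 1 (pullback.snd f T.hom) :=
    MorphismProperty.pullback_snd (P := @SmoothOfRelativeDimension 1) _ _ inferInstance
  have hN := (PicM.exists_mul_eq_one (cls f (one' f σ hσ T))).choose_spec
  show dg (pullback.snd f T.hom) t _ = 0
  rw [sumCls, dg_mul, dg_pow, dg_prod_cls, dg_inv _ hN, dg_cls]
  ring

theorem pull_sumCls (n : ℕ) {T T' : Over S} (g : T' ⟶ T) (x : Fin n → (T ⟶ Over.mk f)) :
    PicM.pull (PicF.XTmap f g) (sumCls f σ hσ n x) = sumCls f σ hσ n fun i => g ≫ x i := by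
  have h1 : PicM.pull (PicF.XTmap f g) (PicM.exists_mul_eq_one (cls f (one' f σ hσ T))).choose =
      (PicM.exists_mul_eq_one (cls f (one' f σ hσ T'))).choose := by
    have a := congrArg (PicM.pull (PicF.XTmap f g)) (PicM.exists_mul_eq_one (cls f (one' f σ hσ T))).choose_spec
    rw [map_mul, map_one, pull_cls, one'_precomp] at a
    exact mul_left_cancel (a.trans (PicM.exists_mul_eq_one (cls f (one' f σ hσ T'))).choose_spec.symm)
  simp only [sumCls, map_mul, map_prod, map_pow, pull_cls, h1]

/-- Genus at a geometric point. -/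
theorem finrank_h1_geom {Ω : Type u} [Field Ω] (b : Spec (CommRingCat.of Ω) ⟶ S) :
    letI : (pullback f b).Over (Spec (CommRingCat.of Ω)) := ⟨pullback.snd f b⟩
    Module.finrank Ω (Coh.HH (pullback f b) (Coh.structureModule (pullback f b)) 1) =
      CohIII.fiberRank f (Coh.structureModule X) 1 (b (IsLocalRing.closedPoint Ω)) := by
  let π := pullback.snd f b
  letI : (pullback f b).Over (Spec (CommRingCat.of Ω)) := ⟨π⟩
  haveI : IsProper (pullback f b ↘ Spec (CommRingCat.of Ω)) := inferInstanceAs (IsProper π)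
  haveI : Coh.IsQCoh (Coh.structureModule X) := Coherent.isQCoh_structureModule (X := X)
  haveI : Coh.IsQCoh (Coh.structureModule (pullback f b)) := Coherent.isQCoh_structureModule (X := pullback f b)
  haveI : CompactSpace ↥(pullback f b) := QuasiCompact.compactSpace_of_compactSpace π
  haveI : QuasiSeparatedSpace ↥(pullback f b) := quasiSeparatedSpace_of_quasiSeparated π
  let pt : Spec (CommRingCat.of Ω) := IsLocalRing.closedPoint Ω
  obtain ⟨e⟩ := AmpleLib.exists_pullStructureIso (pullback.fst f b)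
  letI := Clifford24.fibreOver π pt
  have h1 : Module.finrank ((Spec (CommRingCat.of Ω)).residueField pt)
      (Coh.HH (π.fiber pt) (CohIII.fiberMod π (Coh.structureModule (pullback f b)) pt) 1) =
      Module.finrank Ω (Coh.HH (pullback f b) (Coh.structureModule (pullback f b)) 1) :=
    Coherent.CohBC.finrank_HH_bc Ω _ (Coherent.CohBC.residueHom pt) π (π.fiberToSpecResidueField pt) (π.fiberι pt)
      (Coherent.CohBC.PerfData.isPullback_fibre pt) _ _ (Iso.refl _) 1
  rw [← h1]
  exact (Coherent.CohBC.finrank_HH_congr _ ((Scheme.Modules.pullback (π.fiberι pt)).mapIso e.symm) 1).trans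
    (Coherent.CohBC.fiberRank_pullback (IsPullback.of_hasPullback f b) (Coh.structureModule X) 1 pt)

variable (hP : AbDual.IsRelPicK Scheme.fppfPrecoverage f P φ)

include hP in
/-- A degree zero geometric point of `Pic` is a sum of points. -/
theorem exists_sum {Ω : Type u} [Field Ω] [IsAlgClosed Ω] {T : Scheme.{u}} (b : Spec (CommRingCat.of Ω) ⟶ S)
    (a : PicM (PicF.XT f (Over.mk b))) (ha : ∀ t, dg (PicF.XTproj f (Over.mk b)) t a = 0) (n : ℕ)
    (hn : ∀ s, CohIII.fiberRank f (Coh.structureModule X) 1 s ≤ n) :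
    ∃ x : Fin n → (Over.mk b ⟶ Over.mk f), sumCls f σ hσ n x = a := by
  clear T
  let W : Over S := Over.mk b
  let C := pullback f b
  letI : C.Over (Spec (CommRingCat.of Ω)) := ⟨pullback.snd f b⟩
  haveI := smoothOfRelativeDimension_isStableUnderBaseChange.{u} 1
  haveI : IsProper (C ↘ Spec (CommRingCat.of Ω)) := inferInstanceAs (IsProper (pullback.snd f b))
  haveI : GeometricallyConnected (C ↘ Spec (CommRingCat.of Ω)) :=
    inferInstanceAs (GeometricallyConnected (pullback.snd f b))
  haveI : SmoothOfRelativeDimension 1 (C ↘ Spec (CommRingCat.of Ω)) :=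
    MorphismProperty.pullback_snd (P := @SmoothOfRelativeDimension 1) f b inferInstance
  haveI : SmoothOfRelativeDimension 1 (pullback.snd f b) := ‹_›
  haveI : Smooth (C ↘ Spec (CommRingCat.of Ω)) := smooth_str Ω
  haveI : GeometricallyIntegral (C ↘ Spec (CommRingCat.of Ω)) := geomIntegral_str Ω
  haveI := isIntegral_curve Ω (X := C)
  haveI := CurveRR24.isLocallyNoetherian_of_proper Ω (X := C)
  have hdim : topologicalKrullDim C = 1 := dim_curve Ω
  let N := (PicM.exists_mul_eq_one (cls f (one' f σ hσ W))).choose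
  have hN := (PicM.exists_mul_eq_one (cls f (one' f σ hσ W))).choose_spec
  -- the class of degree `n` to be made effective
  let a' : PicM C := a * cls f (one' f σ hσ W) ^ n
  obtain ⟨c, hc⟩ := PicM.exists_mul_eq_one a'
  obtain ⟨L, hL, hLc⟩ := PicM.exists_eq_of c
  let pt : Spec (CommRingCat.of Ω) := IsLocalRing.closedPoint Ω
  have hdeg : Curv2.deg Ω C L 1 = n := by
    rw [← dg_field pt hL]
    show dg (pullback.snd f b) pt (PicM.of hL) = n
    rw [← hLc, dg_inv _ hc, dg_mul (pullback.snd f b) pt a (cls f (one' f σ hσ W) ^ n),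
      show dg (pullback.snd f b) pt (cls f (one' f σ hσ W) ^ n) = _ from dg_pow f W pt _ n,
      show dg (pullback.snd f b) pt a = 0 from ha pt,
      show dg (pullback.snd f W.hom) pt (cls f (one' f σ hσ W)) = -1 from dg_cls f (T := W) (one' f σ hσ W) pt]
    ring
  have hpos : 0 < JacAJ27.h0Cls Ω c := by
    rw [hLc, JacAJ27.h0Cls_of hL]
    have h0 := EllGrp5.h0_structure Ω (X := C)
    have hgen : Module.finrank Ω (Coh.HH C (Coh.structureModule C) 1) ≤ n := (finrank_h1_geom f b).trans_le (hn _)
    have hqL := (CurveRR24.isCoh_of_isInvertible Ω hL).1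
    rw [Curv2.deg, CurveRR24.euler_eq_h0_sub_h1 _ hdim.le _ hqL,
      CurveRR24.euler_eq_h0_sub_h1 _ hdim.le _ (Coherent.isQCoh_structureModule (X := C)), h0] at hdeg
    push_cast at hdeg
    omega
  obtain ⟨Q, hQ, hprod⟩ := JacAJ27.exists_effective (k := Ω) hdim n c
    (by rw [hLc, JacAJ27.degCls_of hL, hdeg]) hpos
  let q : C ⟶ Spec (CommRingCat.of Ω) := pullback.snd f b
  let s : Fin n → (Spec (CommRingCat.of Ω) ⟶ C) := fun i => pointOfClosedPoint q (Q i) (hQ i)
  have hs : ∀ i, s i ≫ q = 𝟙 _ := fun i => pointOfClosedPoint_comp _ _ _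
  let x : Fin n → (W ⟶ Over.mk f) := fun i => Over.homMk (s i ≫ pullback.fst f b) (by
    show (s i ≫ pullback.fst f b) ≫ f = b
    rw [Category.assoc, pullback.condition, ← Category.assoc]
    exact (congrArg (· ≫ b) (hs i)).trans (Category.id_comp b))
  have hx : ∀ i, cls f (x i) = JacAJ27.ptClass (k := Ω) hdim (hQ i) := fun i => by
    have e : ptSec f b (x i).left (Over.w (x i)) = s i := pullback.hom_ext
      (ptSec_fst _ _ _ _) ((ptSec_snd _ _ _ _).trans (hs i).symm)
    have hk : (ptSec f b (x i).left (Over.w (x i))).ker = CurveRR24.ptIdeal (Q i) (hQ i) := by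
      rw [e, CurveRR24.ker_section (s i) (hs i) pt]
      congr 1
      exact pointOfClosedPoint_apply q (Q i) (hQ i) pt
    show idl _ _ _ = _
    rw [idl, JacAJ27.ptClass, PicM.of_eq_iff]
    exact ⟨eqToIso (congrArg ClSub.idealMod hk)⟩
  refine ⟨x, ?_⟩
  show (∏ i, cls f (x i)) * N ^ n = a
  rw [Finset.prod_congr rfl fun i _ => hx i]
  have h2 : a * cls f (one' f σ hσ W) ^ n = ∏ i, JacAJ27.ptClass (k := Ω) hdim (hQ i) :=
    mul_left_cancel (((mul_comm c a').trans hc).trans hprod.symm)
  rw [← h2, mul_assoc, ← mul_pow, hN, one_pow, mul_one]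

end Groth.Agent.PicBC5
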