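import Groth.Agent.RigDesc27.Sections
import Groth.Agent.PicLib.PicGroup
import Groth.Prelude.Def_AbDual
import Groth.Prelude.Def_PicLoc
import Mathlib.AlgebraicGeometry.Pullbacks

/-!
# Base change of a scheme representing the sheafified relative Picard functor
-/

set_option autoImplicit false
set_option backward.isDefEq.respectTransparency.types false
set_option linter.style.haveILetI false

universe u

open CategoryTheory CategoryTheory.Limits AlgebraicGeometry
open Groth.Agent.PicLib

namespace Groth.Agent.PicBC5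

variable {X S S' : Scheme.{u}} (f : X ⟶ S) (g : S' ⟶ S)

/-- The base changed family. -/
noncomputable abbrev f' : pullback f g ⟶ S' := pullback.snd f g

/-- An `S'`-scheme as an `S`-scheme. -/
noncomputable abbrev down (T : Over S') : Over S := Over.mk (T.hom ≫ g)

/-- Morphisms of `S'`-schemes as morphisms of `S`-schemes. -/
noncomputable abbrev downMap {T T' : Over S'} (h : T' ⟶ T) : down g T' ⟶ down g T :=
  Over.homMk h.left (Over.w_assoc h g)

/-- The base change of the representing scheme. -/
noncomputable abbrev P' (P : Over S) : Over S' := Over.mk (pullback.snd P.hom g)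

/-- The two base changes of `X` agree. -/
noncomputable def tIso (T : Over S') : PicF.XT (f' f g) T ≅ PicF.XT f (down g T) :=
  pullbackLeftPullbackSndIso f g T.hom

theorem tIso_hom_fst (T : Over S') :
    (tIso f g T).hom ≫ pullback.fst f (T.hom ≫ g) = pullback.fst (f' f g) T.hom ≫ pullback.fst f g :=
  pullbackLeftPullbackSndIso_hom_fst _ _ _

theorem tIso_hom_proj (T : Over S') :
    (tIso f g T).hom ≫ PicF.XTproj f (down g T) = PicF.XTproj (f' f g) T :=
  pullbackLeftPullbackSndIso_hom_snd _ _ _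

theorem tIso_natural {T T' : Over S'} (h : T' ⟶ T) :
    (tIso f g T').hom ≫ PicF.XTmap f (downMap g h) = PicF.XTmap (f' f g) h ≫ (tIso f g T).hom := by
  refine RigDesc27.hom_ext_XT ?_ ?_
  · have a : PicF.XTmap f (downMap g h) ≫ pullback.fst f (T.hom ≫ g) = pullback.fst f (T'.hom ≫ g) :=
      RigDesc27.XTmap_fst (downMap g h)
    have b : PicF.XTmap (f' f g) h ≫ pullback.fst (f' f g) T.hom = pullback.fst (f' f g) T'.hom :=
      RigDesc27.XTmap_fst h
    show (_ ≫ _) ≫ pullback.fst f (T.hom ≫ g) = (_ ≫ _) ≫ pullback.fst f (T.hom ≫ g)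
    rw [Category.assoc, Category.assoc, a, tIso_hom_fst, tIso_hom_fst, reassoc_of% b]
  · rw [Category.assoc, Category.assoc, RigDesc27.XTmap_proj, tIso_hom_proj, RigDesc27.XTmap_proj,
      ← Category.assoc, tIso_hom_proj]
    rfl

/-- Transport of invertible classes to the `S`-side. -/
noncomputable def down' {T : Over S'} (c : PicF.Cl (PicF.XT (f' f g) T)) : PicF.Cl (PicF.XT f (down g T)) :=
  PicF.pullCl (tIso f g T).inv c

theorem pullCl_pullCl {A B C : Scheme.{u}} (a : A ⟶ B) (b : B ⟶ C) {c : PicF.Cl C} (hc : PicF.IsInvertibleCl c) :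
    PicF.pullCl a (PicF.pullCl b c) = PicF.pullCl (a ≫ b) c :=
  congrArg (fun z : PicM A => z.val) (PicM.pull_pull (g := b) (f := a) (⟨c, hc⟩ : PicM C))

theorem down'_natural {T T' : Over S'} (h : T' ⟶ T) {c : PicF.Cl (PicF.XT (f' f g) T)}
    (hc : PicF.IsInvertibleCl c) :
    down' f g (PicF.pullCl (PicF.XTmap (f' f g) h) c) = PicF.pullCl (PicF.XTmap f (downMap g h)) (down' f g c) := by
  rw [down', down', pullCl_pullCl _ _ hc, pullCl_pullCl _ _ hc]
  congr 1
  rw [Iso.inv_comp_eq, ← Category.assoc, tIso_natural, Category.assoc, Iso.hom_inv_id, Category.comp_id]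

variable {P : Over S} (φ : ∀ T : Over S, PicF.Cl (PicF.XT f T) → (T ⟶ P))

/-- The base changed map to the representing scheme. -/
noncomputable def φ' (T : Over S') (c : PicF.Cl (PicF.XT (f' f g) T)) : T ⟶ P' g P :=
  Over.homMk (pullback.lift (φ (down g T) (down' f g c)).left T.hom (Over.w _)) (pullback.lift_snd _ _ _)

theorem φ'_left_fst (T : Over S') (c : PicF.Cl (PicF.XT (f' f g) T)) :
    (φ' f g φ T c).left ≫ pullback.fst P.hom g = (φ (down g T) (down' f g c)).left :=
  pullback.lift_fst _ _ _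

variable {f g} in
theorem hom_ext_P' {T : Over S'} {a b : T ⟶ P' g P}
    (h : a.left ≫ pullback.fst P.hom g = b.left ≫ pullback.fst P.hom g) : a = b :=
  Over.OverMorphism.ext (pullback.hom_ext h ((Over.w a).trans (Over.w b).symm))

theorem isRelPicK (hP : AbDual.IsRelPicK Scheme.fppfPrecoverage f P φ) :
    AbDual.IsRelPicK Scheme.fppfPrecoverage (f' f g) (P' g P) (φ' f g φ) where
  natural T T' h c hc := by
    refine hom_ext_P' ?_
    rw [Over.comp_left, Category.assoc, φ'_left_fst, φ'_left_fst, down'_natural f g h hc,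
      hP.natural _ _ (downMap g h) (down' f g c) (PicLoc.isInvertibleCl_pullCl _ hc)]
    rfl
  locallySurjective T x := by
    let y : down g T ⟶ P := Over.homMk (x.left ≫ pullback.fst P.hom g) (by
      show (x.left ≫ pullback.fst P.hom g) ≫ P.hom = T.hom ≫ g
      rw [Category.assoc, pullback.condition, ← Category.assoc]
      exact congrArg (· ≫ g) (Over.w x))
    obtain ⟨R, hR, hRc⟩ := hP.locallySurjective (down g T) y
    refine ⟨R, hR, fun U u hu => ?_⟩
    obtain ⟨c, hc, hcy⟩ := hRc u hu
    let w : down g (AbDual.ovr T u) ⟶ AbDual.ovr (down g T) u := Over.homMk (𝟙 U) (by simp)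
    let c₁ := PicF.pullCl (PicF.XTmap f w) c
    have hc₁ : PicF.IsInvertibleCl c₁ := PicLoc.isInvertibleCl_pullCl _ hc
    refine ⟨PicF.pullCl (tIso f g (AbDual.ovr T u)).hom c₁, PicLoc.isInvertibleCl_pullCl _ hc₁, hom_ext_P' ?_⟩
    have hd : down' f g (PicF.pullCl (tIso f g (AbDual.ovr T u)).hom c₁) = c₁ := by
      rw [down', pullCl_pullCl _ _ hc₁, Iso.inv_hom_id]
      exact congrArg (fun z : PicM _ => z.val) (PicM.pull_id (⟨c₁, hc₁⟩ : PicM _))
    rw [φ'_left_fst, hd, hP.natural _ _ w _ hc, hcy]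
    show 𝟙 U ≫ u ≫ x.left ≫ pullback.fst P.hom g = (u ≫ x.left) ≫ pullback.fst P.hom g
    rw [Category.id_comp, Category.assoc]
  locallyInjective T c c' hc hc' h := by
    have e : φ (down g T) (down' f g c) = φ (down g T) (down' f g c') :=
      Over.OverMorphism.ext (by rw [← φ'_left_fst, ← φ'_left_fst, h])
    obtain ⟨R, hR, hRc⟩ := hP.locallyInjective (down g T) _ _ (PicLoc.isInvertibleCl_pullCl _ hc)
      (PicLoc.isInvertibleCl_pullCl _ hc') e
    refine ⟨R, hR, fun U u hu => ?_⟩
    let w : down g (AbDual.ovr T u) ⟶ AbDual.ovr (down g T) u := Over.homMk (𝟙 U) (by simp)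
    have hw : downMap g (AbDual.ovrHom T u) = w ≫ AbDual.ovrHom (down g T) u :=
      Over.OverMorphism.ext (Category.id_comp u).symm
    have key := congrArg (PicF.pullCl (PicF.XTmap f w)) (hRc u hu)
    have hd : ∀ {d : PicF.Cl (PicF.XT (f' f g) T)}, PicF.IsInvertibleCl d →
        PicF.pullCl (tIso f g _).hom (PicF.pullCl (PicF.XTmap f w)
          (PicF.pullCl (PicF.XTmap f (AbDual.ovrHom (down g T) u)) (down' f g d))) =
        PicF.pullCl (PicF.XTmap (f' f g) (AbDual.ovrHom T u)) d := by
      intro d hd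
      rw [down', pullCl_pullCl _ _ (PicLoc.isInvertibleCl_pullCl _ hd), pullCl_pullCl _ _ (PicLoc.isInvertibleCl_pullCl _ hd),
        pullCl_pullCl _ _ hd]
      congr 1
      rw [← RigDesc27.XTmap_comp, ← hw, Category.assoc, reassoc_of% (tIso_natural f g (AbDual.ovrHom T u)),
        Iso.hom_inv_id, Category.comp_id]
    have key2 := congrArg (PicF.pullCl (tIso f g (AbDual.ovr T u)).hom) key
    exact (hd hc).symm.trans (key2.trans (hd hc'))

end Groth.Agent.PicBC5
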