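import Groth.Agent.EllGrp5.AlgZero
import Groth.Agent.S12409
import Groth.Agent.RigDesc27.Sections

/-!
# `Pic⁰` of a family of smooth curves is the degree zero part of `Pic`
-/

set_option autoImplicit false
set_option backward.isDefEq.respectTransparency.types false
set_option linter.style.haveILetI false

universe u

open CategoryTheory CategoryTheory.Limits AlgebraicGeometry
open Groth.Agent.PicLib Groth.Agent.EllGrp5

namespace Groth.Agent.PicBC5

variable {X S : Scheme.{u}} (f : X ⟶ S) [IsProper f] [SmoothOfRelativeDimension 1 f] [GeometricallyConnected f]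

/-- The degree as a difference of truncated Euler characteristics. -/
theorem dg_eq_eulerCharLE (T : Over S) {L : (PicF.XT f T).Modules} (hL : PicF.IsInvertible L) (t : T.left) :
    dg (PicF.XTproj f T) t (PicM.of hL) =
      FGA.eulerCharLE (T.left.residueField t) (FGA.fibreAt f T t).left (FGA.restrFibre f T t L) 1 -
        FGA.eulerCharLE (T.left.residueField t) (FGA.fibreAt f T t).left
          (Coh.structureModule (FGA.fibreAt f T t).left) 1 := by
  let π := PicF.XTproj f T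
  haveI : IsProper π := inferInstanceAs (IsProper (pullback.snd f T.hom))
  haveI : SmoothOfRelativeDimension 1 π :=
    haveI := smoothOfRelativeDimension_isStableUnderBaseChange.{u} 1
    MorphismProperty.pullback_snd (P := @SmoothOfRelativeDimension 1) _ _ inferInstance
  haveI : GeometricallyConnected π := inferInstanceAs (GeometricallyConnected (pullback.snd f T.hom))
  rw [dg_of]
  letI := Clifford24.fibreOver π t
  obtain ⟨i1, i2, i3⟩ := fibre_inst π t
  haveI : IsProper (π.fiber t ↘ Spec (CommRingCat.of (T.left.residueField t))) := i1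
  haveI : SmoothOfRelativeDimension 1 (π.fiber t ↘ Spec (CommRingCat.of (T.left.residueField t))) := i2
  haveI : GeometricallyConnected (π.fiber t ↘ Spec (CommRingCat.of (T.left.residueField t))) := i3
  haveI := isIntegral_curve (T.left.residueField t) (X := π.fiber t)
  haveI := CurveRR24.isLocallyNoetherian_of_proper (T.left.residueField t) (X := π.fiber t)
  have hdim := (dim_curve (T.left.residueField t) (X := π.fiber t)).le
  have hq : Coh.IsQCoh (CohIII.fiberMod π L t) :=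
    (CurveRR24.isCoh_of_isInvertible (T.left.residueField t) (isInvertible_fibre π hL t)).1
  have hO : Coh.IsQCoh (Coh.structureModule (π.fiber t)) := Coherent.isQCoh_structureModule
  rw [Curv2.deg, CurveRR24.euler_eq_h0_sub_h1 _ hdim _ hq, CurveRR24.euler_eq_h0_sub_h1 _ hdim _ hO]
  show _ = FGA.eulerCharLE (T.left.residueField t) (π.fiber t) (CohIII.fiberMod π L t) 1 -
    FGA.eulerCharLE (T.left.residueField t) (π.fiber t) (Coh.structureModule (π.fiber t)) 1
  simp [FGA.eulerCharLE, Finset.sum_range_succ]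
  ring

omit [IsProper f] [SmoothOfRelativeDimension 1 f] [GeometricallyConnected f] in
theorem hom_ext_fppf {T P : Over S} {R : Presieve T.left} (hR : R ∈ Scheme.fppfPrecoverage T.left) {x x' : T ⟶ P}
    (h : ∀ ⦃U : Scheme.{u}⦄ (u : U ⟶ T.left), R u → AbDual.ovrHom T u ≫ x = AbDual.ovrHom T u ≫ x') : x = x' := by
  refine Over.OverMorphism.ext ?_
  have hmem : Sieve.generate R ∈ Scheme.fppfTopology T.left := Precoverage.generate_mem_toGrothendieck hR
  refine ((GrothendieckTopology.Subcanonical.isSheaf_of_isRepresentable (J := Scheme.fppfTopology)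
    (yoneda.obj P.left)) _ hmem).isSeparatedFor.ext ?_
  intro U u hu
  obtain ⟨V, v, w, hw, rfl⟩ := hu
  show (v ≫ w) ≫ x.left = (v ≫ w) ≫ x'.left
  rw [Category.assoc, Category.assoc]
  exact congrArg (v ≫ ·) (congrArg (fun z => Over.Hom.left z) (h w hw))

/-- `Pic⁰` classes pull back to `Pic⁰` classes. -/
theorem isPicZeroCl_pull {T T' : Over S} (g : T' ⟶ T) {c : PicF.Cl (PicF.XT f T)}
    (hc : AbDual.IsPicZeroCl f T c) : AbDual.IsPicZeroCl f T' (PicF.pullCl (PicF.XTmap f g) c) := by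
  obtain ⟨L, rfl, hL, ht⟩ := hc
  haveI := smoothOfRelativeDimension_isStableUnderBaseChange.{u} 1
  haveI : SmoothOfRelativeDimension 1 (pullback.snd f T.hom) :=
    MorphismProperty.pullback_snd (P := @SmoothOfRelativeDimension 1) _ _ inferInstance
  have h0 := (isPicZeroCl_iff f T (PicM.of hL)).1 ⟨L, rfl, hL, ht⟩
  exact (isPicZeroCl_iff f T' (PicM.pull (PicF.XTmap f g) (PicM.of hL))).2 fun t =>
    (dg_baseChange (pullback.snd f T.hom) (RigDesc27.isPullback_XTmap (f := f) g) t (PicM.of hL)).trans (h0 _)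

variable {P : Over S} (φ : ∀ T : Over S, PicF.Cl (PicF.XT f T) → (T ⟶ P))

/-- A degree function on the representing scheme. -/
def IsDegFun (d : P.left → ℤ) : Prop :=
  IsLocallyConstant d ∧ ∀ (T : Over S) (a : PicM (PicF.XT f T)) (t : T.left),
    d ((φ T a.val).left t) = dg (PicF.XTproj f T) t a

omit [SmoothOfRelativeDimension 1 f] [GeometricallyConnected f] in
theorem isOpen_degZero {d : P.left → ℤ} (hd : IsDegFun f φ d) : IsClopen {p | d p = 0} :=
  hd.1.isClopen_fiber 0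

/-- The degree zero open subscheme. -/
noncomputable def degZero {d : P.left → ℤ} (hd : IsDegFun f φ d) : P.left.Opens :=
  ⟨{p | d p = 0}, (isOpen_degZero f φ hd).isOpen⟩

theorem exists_isDegFun (hdim : ∀ s : S, topologicalKrullDim ↥(f.fiber s) = 1)
    (hP : AbDual.IsRelPicK Scheme.fppfPrecoverage f P φ) : ∃ d, IsDegFun f φ d := by
  haveI := smooth_f f
  haveI : LocallyOfFinitePresentation f := inferInstance
  obtain ⟨d, hd, hdc⟩ := S12409.result f hdim P φ hP
  refine ⟨d, hd, fun T a t => ?_⟩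
  obtain ⟨L, hL, rfl⟩ := PicM.exists_eq_of a
  rw [dg_eq_eulerCharLE f T hL t]
  exact hdc T L hL t

variable {P₀ : Over S} (φ₀ : ∀ T : Over S, PicF.Cl (PicF.XT f T) → (T ⟶ P₀))
  (hP : AbDual.IsRelPicK Scheme.fppfPrecoverage f P φ)
  (hP₀ : AbDual.IsRelPicZeroK Scheme.fppfPrecoverage f P₀ φ₀) (j : P₀ ⟶ P)
  (hj : ∀ (T : Over S) (c : PicF.Cl (PicF.XT f T)), AbDual.IsPicZeroCl f T c → φ₀ T c ≫ j = φ T c)

include hP₀ hP hj

theorem mono_j : Mono j := ⟨fun {T} x x' h => by
  obtain ⟨R, hR, hRc⟩ := hP₀.locallySurjective T x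
  refine hom_ext_fppf hR fun U u hu => ?_
  obtain ⟨c, hc, hcx⟩ := hRc u hu
  obtain ⟨R', hR', hR'c⟩ := hP₀.locallySurjective _ (AbDual.ovrHom T u ≫ x')
  refine hom_ext_fppf hR' fun V v hv => ?_
  obtain ⟨c', hc', hcx'⟩ := hR'c v hv
  let w := AbDual.ovrHom (AbDual.ovr T u) v
  let c₁ := PicF.pullCl (PicF.XTmap f w) c
  have hc₁ : AbDual.IsPicZeroCl f _ c₁ ∧ φ₀ _ c₁ = w ≫ AbDual.ovrHom T u ≫ x := by
    refine ⟨?_, by rw [hP₀.natural _ _ w c hc, hcx]⟩
    exact isPicZeroCl_pull f w hc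
  have e : φ _ c₁ = φ _ c' := by
    rw [← hj _ c₁ hc₁.1, ← hj _ c' hc', hc₁.2, hcx']
    simp only [w, Category.assoc, h]
  obtain ⟨L, rfl, hL, ht⟩ := hc'
  obtain ⟨L₁, hL₁c, hL₁, -⟩ := hc₁.1
  obtain ⟨R'', hR'', hR''c⟩ := hP.locallyInjective _ c₁ _ ⟨L₁, hL₁c, hL₁⟩ ⟨L, rfl, hL⟩ e
  rw [← hc₁.2, ← hcx']
  refine hom_ext_fppf hR'' fun W r hr => ?_
  rw [← hP₀.natural _ _ (AbDual.ovrHom _ r) _ hc₁.1, ← hP₀.natural _ _ (AbDual.ovrHom _ r) _ ⟨L, rfl, hL, ht⟩,
    hR''c r hr]⟩

end Groth.Agent.PicBC5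

namespace Groth.Agent.PicBC5

variable {X S : Scheme.{u}} (f : X ⟶ S) [IsProper f] [SmoothOfRelativeDimension 1 f] [GeometricallyConnected f]
  {P : Over S} (φ : ∀ T : Over S, PicF.Cl (PicF.XT f T) → (T ⟶ P))
  {P₀ : Over S} (φ₀ : ∀ T : Over S, PicF.Cl (PicF.XT f T) → (T ⟶ P₀))
  (hP : AbDual.IsRelPicK Scheme.fppfPrecoverage f P φ)
  (hP₀ : AbDual.IsRelPicZeroK Scheme.fppfPrecoverage f P₀ φ₀) (j : P₀ ⟶ P)
  (hj : ∀ (T : Over S) (c : PicF.Cl (PicF.XT f T)), AbDual.IsPicZeroCl f T c → φ₀ T c ≫ j = φ T c)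
  {d : P.left → ℤ} (hd : IsDegFun f φ d)

include hP hP₀ hj hd

theorem j_mem_degZero (p : P₀.left) : j.left p ∈ degZero f φ hd := by
  let T : Over S := Over.mk (P₀.left.fromSpecResidueField p ≫ P₀.hom)
  let g : T ⟶ P₀ := Over.homMk (P₀.left.fromSpecResidueField p) rfl
  obtain ⟨R, hR, hRc⟩ := hP₀.locallySurjective T g
  obtain ⟨U, u, hu, z, -⟩ : ∃ (U : Scheme.{u}) (u : U ⟶ T.left) (_ : R u) (z : U), True := by
    obtain ⟨_, _, ⟨hu⟩, ⟨z, -⟩⟩ := hR.1 (IsLocalRing.closedPoint (P₀.left.residueField p))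
    exact ⟨_, _, hu, z, trivial⟩
  obtain ⟨c, hc, hcg⟩ := hRc u hu
  obtain ⟨L, rfl, hL, ht⟩ := hc
  have h0 := (isPicZeroCl_iff f (AbDual.ovr T u) (PicM.of hL)).1 ⟨L, rfl, hL, ht⟩ z
  have e : (φ (AbDual.ovr T u) (PicF.cl L)).left z = j.left p := by
    rw [← hj _ _ ⟨L, rfl, hL, ht⟩, hcg]
    show j.left ((P₀.left.fromSpecResidueField p) (u z)) = _
    rw [Scheme.fromSpecResidueField_apply]
  show d (j.left p) = 0
  rw [← e]
  exact (hd.2 _ (PicM.of hL) z).trans h0

/-- Points of degree zero come from `Pic⁰`. -/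
theorem exists_lift_degZero {T : Over S} (x : T ⟶ P) (hx : ∀ t : T.left, d (x.left t) = 0) :
    ∃ y : T ⟶ P₀, y ≫ j = x := by
  haveI := mono_j f φ φ₀ hP hP₀ j hj
  obtain ⟨R, hR, hRc⟩ := hP.locallySurjective T x
  have loc : ∀ ⦃U : Scheme.{u}⦄ (u : U ⟶ T.left), R u →
      ∃ y : AbDual.ovr T u ⟶ P₀, y ≫ j = AbDual.ovrHom T u ≫ x := fun U u hu => by
    obtain ⟨c, hc, hcx⟩ := hRc u hu
    let a : PicM (PicF.XT f (AbDual.ovr T u)) := ⟨c, hc⟩
    have h0 : AbDual.IsPicZeroCl f (AbDual.ovr T u) c := (isPicZeroCl_iff f _ a).2 fun t => by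
      show dg (PicF.XTproj f (AbDual.ovr T u)) t a = 0
      rw [← hd.2 (AbDual.ovr T u) a t]
      show d ((φ _ c).left t) = 0
      rw [hcx]; exact hx _
    exact ⟨φ₀ _ c, (hj _ c h0).trans hcx⟩
  choose y hy using loc
  have hmem : Sieve.generate R ∈ Scheme.fppfTopology T.left := Precoverage.generate_mem_toGrothendieck hR
  have hsheaf := Presieve.isSheafFor_iff_generate R |>.2
    ((GrothendieckTopology.Subcanonical.isSheaf_of_isRepresentable (J := Scheme.fppfTopology)
      (yoneda.obj P₀.left)) _ hmem)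
  let fam : Presieve.FamilyOfElements (yoneda.obj P₀.left) R := fun U u hu => (y u hu).left
  have hc : fam.Compatible := fun {Y₁ Y₂ Z} g₁ g₂ {u₁ u₂} h₁ h₂ he => by
    let W : Over S := Over.mk ((g₁ ≫ u₁) ≫ T.hom)
    let a₁ : W ⟶ AbDual.ovr T u₁ := Over.homMk g₁ (Category.assoc _ _ _).symm
    let a₂ : W ⟶ AbDual.ovr T u₂ := Over.homMk g₂ (by
      show g₂ ≫ u₂ ≫ T.hom = (g₁ ≫ u₁) ≫ T.hom
      rw [he, Category.assoc])
    have : a₁ ≫ y u₁ h₁ = a₂ ≫ y u₂ h₂ := by
      rw [← cancel_mono j, Category.assoc, Category.assoc, hy, hy, ← Category.assoc, ← Category.assoc]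
      congr 1
      exact Over.OverMorphism.ext he
    exact congrArg (fun z => Over.Hom.left z) this
  let s := hsheaf.amalgamate fam hc
  have hs : ∀ ⦃U : Scheme.{u}⦄ (u : U ⟶ T.left) (hu : R u), u ≫ s = (y u hu).left :=
    fun U u hu => hsheaf.valid_glue hc u hu
  have hw : s ≫ P₀.hom = T.hom := by
    refine (((GrothendieckTopology.Subcanonical.isSheaf_of_isRepresentable (J := Scheme.fppfTopology)
      (yoneda.obj S)) _ hmem).isSeparatedFor.ext ?_)
    intro U u hu
    obtain ⟨V, v, w, hw, rfl⟩ := hu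
    show (v ≫ w) ≫ s ≫ P₀.hom = (v ≫ w) ≫ T.hom
    rw [Category.assoc, ← Category.assoc w, hs w hw, Over.w (y w hw), Category.assoc]
    rfl
  refine ⟨Over.homMk s hw, hom_ext_fppf hR fun U u hu => ?_⟩
  rw [← hy u hu, ← Category.assoc]
  congr 1
  exact Over.OverMorphism.ext (hs u hu)

/-- `Pic⁰` is the degree zero open and closed subscheme. -/
theorem exists_iso_degZero : ∃ k : P₀.left ≅ (degZero f φ hd).toScheme, k.hom ≫ (degZero f φ hd).ι = j.left := by
  haveI := mono_j f φ φ₀ hP hP₀ j hj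
  let U := degZero f φ hd
  have hr : Set.range j.left ⊆ Set.range U.ι := by
    rw [Scheme.Opens.range_ι]
    rintro _ ⟨p, rfl⟩
    exact j_mem_degZero f φ φ₀ hP hP₀ j hj hd p
  let k := IsOpenImmersion.lift U.ι j.left hr
  have hk : k ≫ U.ι = j.left := IsOpenImmersion.lift_fac _ _ _
  let T : Over S := Over.mk (U.ι ≫ P.hom)
  obtain ⟨y, hy⟩ := exists_lift_degZero f φ φ₀ hP hP₀ j hj hd (T := T) (Over.homMk U.ι rfl) fun t => t.2
  have hy' : y.left ≫ j.left = U.ι := congrArg (fun z => Over.Hom.left z) hy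
  have hky : (Over.homMk k (by
      show k ≫ U.ι ≫ P.hom = P₀.hom
      rw [reassoc_of% hk]; exact Over.w j) : P₀ ⟶ T) ≫ y = 𝟙 P₀ := by
    rw [← cancel_mono j, Category.assoc, hy, Category.id_comp]
    exact Over.OverMorphism.ext hk
  refine ⟨⟨k, y.left, congrArg (fun z => Over.Hom.left z) hky, ?_⟩, hk⟩
  rw [← cancel_mono U.ι, Category.assoc, hk, hy', Category.id_comp]

theorem isClosedImmersion_j : IsOpenImmersion j.left ∧ IsClosedImmersion j.left := by
  obtain ⟨k, hk⟩ := exists_iso_degZero f φ φ₀ hP hP₀ j hj hd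
  haveI : IsClosedImmersion (degZero f φ hd).ι := IsClosedImmersion.of_isPreimmersion _
    (by rw [Scheme.Opens.range_ι]; exact (isOpen_degZero f φ hd).isClosed)
  rw [← hk]
  exact ⟨inferInstance, inferInstance⟩

end Groth.Agent.PicBC5
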