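import Groth.Agent.EllGrp5.AlgZero
import Groth.Agent.Coherent.CohBC.EulerLC
import Groth.Agent.Clifford24.SmoothFamilyO

/-!
# The genus of a family of curves is bounded over a quasi-compact base
-/

set_option autoImplicit false
set_option backward.isDefEq.respectTransparency.types false
set_option linter.style.haveILetI false

universe u

open CategoryTheory CategoryTheory.Limits AlgebraicGeometry
open Groth.Agent.PicLib Groth.Agent.EllGrp5

namespace Groth.Agent.PicBC5

variable {X S : Scheme.{u}} (f : X ⟶ S) [IsProper f] [SmoothOfRelativeDimension 1 f] [GeometricallyConnected f]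

theorem exists_genus_bound [CompactSpace S] :
    ∃ n : ℕ, ∀ s : S, CohIII.fiberRank f (Coh.structureModule X) 1 s ≤ n := by
  haveI := smooth_f f
  haveI : LocallyOfFinitePresentation f := inferInstance
  haveI : Coh.IsQCoh (Coh.structureModule X) := Coherent.isQCoh_structureModule (X := X)
  have hlc := Coherent.CohBC.isLocallyConstant_eulerChar_of_isFP f (F := Coh.structureModule X)
    (Clifford24.isFP_structure (X := X)) (Clifford24.isFlatOver_structure f)
  obtain ⟨m, hm⟩ := (hlc.range_finite).bddBelow
  refine ⟨(1 - m).toNat, fun s => ?_⟩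
  letI := Clifford24.fibreOver f s
  obtain ⟨i1, i2, i3⟩ := fibre_inst f s
  haveI : IsProper (f.fiber s ↘ Spec (CommRingCat.of (S.residueField s))) := i1
  haveI : SmoothOfRelativeDimension 1 (f.fiber s ↘ Spec (CommRingCat.of (S.residueField s))) := i2
  haveI : GeometricallyConnected (f.fiber s ↘ Spec (CommRingCat.of (S.residueField s))) := i3
  haveI := isIntegral_curve (S.residueField s) (X := f.fiber s)
  haveI := CurveRR24.isLocallyNoetherian_of_proper (S.residueField s) (X := f.fiber s)
  have hq : Coh.IsQCoh (CohIII.fiberMod f (Coh.structureModule X) s) :=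
    (CurveRR24.isCoh_of_isInvertible (S.residueField s)
      (isInvertible_fibre f AmpleLib.isInvertible_structureModule s)).1
  have he := CurveRR24.euler_eq_h0_sub_h1 (S.residueField s) (dim_curve (S.residueField s) (X := f.fiber s)).le _ hq
  have h0 : CohIII.fiberRank f (Coh.structureModule X) 0 s = 1 := Clifford24.fiberRank_structure f s
  have hb : m ≤ PerfAux.eulerChar f (Coh.structureModule X) s := hm ⟨s, rfl⟩
  have he' : PerfAux.eulerChar f (Coh.structureModule X) s =
      (CohIII.fiberRank f (Coh.structureModule X) 0 s : ℤ) - CohIII.fiberRank f (Coh.structureModule X) 1 s := he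
  omega

end Groth.Agent.PicBC5
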