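import Groth.Agent.PicBC5.BaseChange
import Groth.Agent.RigDesc27.Points
import Groth.Agent.AbDualLib.Basic
import Groth.Agent.S19504
import Groth.Agent.PicDef15.Adic
import Groth.Agent.PicDef15.StepCoh
import Groth.Agent.MorProj.OmegaAffine
import Groth.Agent.DualLib.RelDualizingModule
import Groth.Agent.Unram17Lib.LocalLift
import Groth.Agent.SmoothLib.StalkCrit
import Groth.Agent.Coherent.CohBC.FibreField
import Mathlib.AlgebraicGeometry.Morphisms.LocalFlatDescent

/-!
# The relative Picard scheme of a family of curves is smooth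
-/

set_option autoImplicit false
set_option backward.isDefEq.respectTransparency.types false
set_option linter.style.haveILetI false

universe u

open CategoryTheory CategoryTheory.Limits AlgebraicGeometry IsLocalRing
open Groth.Agent.PicLib

namespace Groth.Agent.PicBC5

/-- Line bundles lift along square-zero thickenings of affine bases for families of curves. -/
theorem exists_lift {R R₀ : Type u} [CommRing R] [CommRing R₀] (ψ : R →+* R₀) (hψ : Function.Surjective ψ)
    (hsq : RingHom.ker ψ ^ 2 = ⊥) {Y Z : Scheme.{u}} (g : Y ⟶ Spec (CommRingCat.of R)) [IsProper g]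
    (hd : ∀ y, topologicalKrullDim ↥(g.fiber y) ≤ (1 : ℕ)) {t : Z ⟶ Y} {g₀ : Z ⟶ Spec (CommRingCat.of R₀)}
    (h : IsPullback t g₀ g (Spec.map (CommRingCat.ofHom ψ))) (c : PicM Z) :
    ∃ d : PicM Y, PicM.pull t d = c := by
  haveI := IsClosedImmersion.spec_of_surjective (CommRingCat.ofHom ψ) hψ
  haveI : IsClosedImmersion t := MorphismProperty.of_isPullback (P := @IsClosedImmersion) h.flip inferInstance
  have hI : ∀ V : Y.affineOpens, t.ker.ideal V = (RingHom.ker ψ).map (PicDef15.phi g V.1) :=
    fun V => PicDef15.ideal_ker_of_isPullback ψ hψ h V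
  have hI2 : t.ker * t.ker = ⊥ := by
    rw [← pow_two]; exact PicDef15.sq_eq_bot g hI (by rw [← pow_two]; exact hsq)
  haveI : Coh.IsQCoh (ClSub.idealMod t.ker) := MorProj.isQCoh_idealMod t.ker
  letI : Y.Over (Spec (CommRingCat.of R)) := ⟨g⟩
  haveI : IsProper (Y ↘ Spec (CommRingCat.of R)) := ‹IsProper g›
  have h2 : Subsingleton (Coh.HH Y (ClSub.idealMod t.ker) 2) :=
    DualLib.RelMod.subsingleton_HH_of_fibres R hd _ 2 one_lt_two
  obtain ⟨d, hd', hdc⟩ := S19504.result Y t.ker hI2 h2 (PicM.pull (inv t.toImage) c).val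
    (PicM.pull (inv t.toImage) c).prop
  refine ⟨⟨d, hd'⟩, ?_⟩
  have e : PicM.pull t.ker.subschemeι (⟨d, hd'⟩ : PicM Y) = PicM.pull (inv t.toImage) c := PicM.ext hdc
  have e2 := congrArg (PicM.pull t.toImage) e
  rwa [PicM.pull_pull, PicM.pull_pull, t.toImage_imageι, IsIso.hom_inv_id, PicM.pull_id] at e2

variable {X S : Scheme.{u}} (f : X ⟶ S)

/-- With a section, the relative Picard scheme of a family of curves is smooth. -/
theorem smooth_of_section [IsProper f] [Flat f] [LocallyOfFinitePresentation f] [GeometricallyReduced f]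
    [GeometricallyConnected f] (hd : ∀ s : S, topologicalKrullDim ↥(f.fiber s) ≤ (1 : ℕ))
    (σ : S ⟶ X) (hσ : σ ≫ f = 𝟙 S) {P : Over S} (φ : ∀ T : Over S, PicF.Cl (PicF.XT f T) → (T ⟶ P))
    (hP : AbDual.IsRelPicK Scheme.fppfPrecoverage f P φ) [LocallyOfFinitePresentation P.hom] :
    Smooth P.hom := by
  have ha : ∀ (V : Over S) (O : V.left.Opens), IsIso ((PicF.XTproj f V).app O) := fun V O => by
    haveI : IsProper (PicF.XTproj f V) := MorphismProperty.pullback_snd (P := @IsProper) _ _ inferInstance
    haveI : Flat (PicF.XTproj f V) := MorphismProperty.pullback_snd (P := @Flat) _ _ inferInstance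
    haveI : LocallyOfFinitePresentation (PicF.XTproj f V) :=
      MorphismProperty.pullback_snd (P := @LocallyOfFinitePresentation) _ _ inferInstance
    haveI : GeometricallyConnected (PicF.XTproj f V) :=
      MorphismProperty.pullback_snd (P := @GeometricallyConnected) _ _ inferInstance
    haveI : GeometricallyReduced (PicF.XTproj f V) :=
      MorphismProperty.pullback_snd (P := @GeometricallyReduced) _ _ inferInstance
    exact (ConcreteCategory.isIso_iff_bijective _).2
      (AbDualLib.bijective_app_of_section (PicF.XTproj f V) (PicF.secT f σ hσ V) (RigDesc27.secT_proj σ hσ) O)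
  have hpt : ∀ x : P.left, ∃ U : P.left.Opens, x ∈ U ∧ Smooth (U.ι ≫ P.hom) := fun x => by
    rw [SmoothLib.smooth_nhd_iff, Unram17Lib.formallySmooth_stalkMap_iff_lifting]
    intro B B' _ _ _ _ ψ hψ hker α β _ hβ
    let T : Over S := Over.mk β
    let T₀ : Over S := Over.mk (Spec.map (CommRingCat.ofHom ψ) ≫ β)
    let it : T₀ ⟶ T := Over.homMk (Spec.map (CommRingCat.ofHom ψ)) rfl
    let a : T₀ ⟶ P := Over.homMk α hβ.symm
    obtain ⟨c, -, hca⟩ := RigDesc27.exists_phi_eq (σ := σ) (hσ := hσ) ha hP (T := T₀) a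
    let π : PicF.XT f T ⟶ Spec (CommRingCat.of B') := PicF.XTproj f T
    haveI : IsProper π := MorphismProperty.pullback_snd (P := @IsProper) _ _ inferInstance
    obtain ⟨d, hdc⟩ := exists_lift ψ hψ hker π
      (fun y => (Coherent.CohBC.topologicalKrullDim_fiber_of_isPullback
        (IsPullback.of_hasPullback f T.hom) y).trans_le (hd _))
      (RigDesc27.isPullback_XTmap (f := f) it : IsPullback (PicF.XTmap f it) (PicF.XTproj f T₀) π
        (Spec.map (CommRingCat.ofHom ψ))) c
    refine ⟨(φ T d.val).left, ?_, Over.w _⟩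
    have e : it ≫ φ T d.val = a := by rw [← RigDesc27.phi_pull hP, hdc, hca]
    exact congrArg (fun z => Over.Hom.left z) e
  choose U hxU hU using hpt
  refine IsZariskiLocalAtSource.of_iSup_eq_top (P := @Smooth) U
    (eq_top_iff.2 fun x _ => TopologicalSpace.Opens.mem_iSup.2 ⟨x, hxU x⟩) hU

/-- The relative Picard scheme of a family of curves is smooth. -/
theorem smooth_relPic [IsProper f] [Flat f] [LocallyOfFinitePresentation f] [GeometricallyReduced f]
    [GeometricallyConnected f] (hd : ∀ s : S, topologicalKrullDim ↥(f.fiber s) ≤ (1 : ℕ))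
    {P : Over S} (φ : ∀ T : Over S, PicF.Cl (PicF.XT f T) → (T ⟶ P))
    (hP : AbDual.IsRelPicK Scheme.fppfPrecoverage f P φ) [LocallyOfFinitePresentation P.hom] :
    Smooth P.hom := by
  let f₁ := f' f f
  haveI : IsProper f₁ := MorphismProperty.pullback_snd (P := @IsProper) _ _ inferInstance
  haveI : Flat f₁ := MorphismProperty.pullback_snd (P := @Flat) _ _ inferInstance
  haveI : LocallyOfFinitePresentation f₁ :=
    MorphismProperty.pullback_snd (P := @LocallyOfFinitePresentation) _ _ inferInstance
  haveI : GeometricallyConnected f₁ := MorphismProperty.pullback_snd (P := @GeometricallyConnected) _ _ inferInstance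
  haveI : GeometricallyReduced f₁ := MorphismProperty.pullback_snd (P := @GeometricallyReduced) _ _ inferInstance
  haveI : LocallyOfFinitePresentation (P' f P).hom :=
    MorphismProperty.pullback_snd (P := @LocallyOfFinitePresentation) P.hom f inferInstance
  have hd₁ : ∀ z, topologicalKrullDim ↥(f₁.fiber z) ≤ (1 : ℕ) := fun z =>
    (Coherent.CohBC.topologicalKrullDim_fiber_of_isPullback (IsPullback.of_hasPullback f f) z).trans_le (hd _)
  have h1 : Smooth (pullback.snd P.hom f) :=
    smooth_of_section f₁ hd₁ (pullback.lift (𝟙 X) (𝟙 X) rfl) (pullback.lift_snd _ _ _) (φ' f f φ)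
      (isRelPicK f f φ hP)
  haveI : Surjective f := inferInstance
  exact MorphismProperty.of_pullback_snd_of_descendsAlong (P := @Smooth)
    (Q := @Surjective ⊓ @Flat ⊓ @QuasiCompact) (f := P.hom) (g := f)
    ⟨⟨inferInstance, inferInstance⟩, inferInstance⟩ h1

end Groth.Agent.PicBC5
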