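import Groth.Agent.PicBC5.Abel
import Groth.Agent.PicBC5.GenusBound
import Groth.Agent.PicBC5.BaseChange
import Groth.Agent.PicBC5.Smooth
import Groth.Agent.Et18.Descent

/-!
# The degree zero part of `Pic` of a family of smooth curves is proper with connected fibres
-/

set_option autoImplicit false
set_option backward.isDefEq.respectTransparency.types false
set_option linter.style.haveILetI false
set_option maxHeartbeats 1000000

universe u

open CategoryTheory CategoryTheory.Limits AlgebraicGeometry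
open Groth.Agent.PicLib Groth.Agent.EllGrp5

namespace Groth.Agent.PicBC5

variable {X S : Scheme.{u}} (f : X ⟶ S) [IsProper f] [SmoothOfRelativeDimension 1 f] [GeometricallyConnected f]
  {P : Over S} [LocallyOfFinitePresentation P.hom] (φ : ∀ T : Over S, PicF.Cl (PicF.XT f T) → (T ⟶ P))

theorem isIso_app_of_sec (σ : S ⟶ X) (hσ : σ ≫ f = 𝟙 S) (V : Over S) (O : V.left.Opens) :
    IsIso ((PicF.XTproj f V).app O) := by
  haveI := smooth_f f
  haveI := AbSchLib.geometricallyReduced_of_smooth f
  haveI : IsProper (PicF.XTproj f V) := MorphismProperty.pullback_snd (P := @IsProper) _ _ inferInstance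
  haveI : Flat (PicF.XTproj f V) := MorphismProperty.pullback_snd (P := @Flat) _ _ inferInstance
  haveI : LocallyOfFinitePresentation (PicF.XTproj f V) :=
    MorphismProperty.pullback_snd (P := @LocallyOfFinitePresentation) _ _ inferInstance
  haveI : GeometricallyConnected (PicF.XTproj f V) :=
    MorphismProperty.pullback_snd (P := @GeometricallyConnected) _ _ inferInstance
  haveI : GeometricallyReduced (PicF.XTproj f V) :=
    MorphismProperty.pullback_snd (P := @GeometricallyReduced) _ _ inferInstance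
  exact (ConcreteCategory.isIso_iff_bijective _).2
    (AbDualLib.bijective_app_of_section (PicF.XTproj f V) (PicF.secT f σ hσ V) (RigDesc27.secT_proj σ hσ) O)

theorem exists_geomPt {Y : Scheme.{u}} (p : Y) :
    ∃ (Ω : Type u) (_ : Field Ω) (_ : IsAlgClosed Ω) (t : Spec (CommRingCat.of Ω) ⟶ Y), ∀ z, t z = p :=
  ⟨AlgebraicClosure (Y.residueField p), inferInstance, inferInstance,
    Spec.map (CommRingCat.ofHom (algebraMap (Y.residueField p) _)) ≫ Y.fromSpecResidueField p, fun z => by
      rw [Scheme.Hom.comp_apply, Scheme.fromSpecResidueField_apply]⟩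

/-- With a section and bounded genus, `Pic⁰` is proper with connected geometric fibres. -/
theorem proper_of_section (σ : S ⟶ X) (hσ : σ ≫ f = 𝟙 S) (n : ℕ)
    (hn : ∀ s, CohIII.fiberRank f (Coh.structureModule X) 1 s ≤ n)
    (hP : AbDual.IsRelPicK Scheme.fppfPrecoverage f P φ) {d : P.left → ℤ} (hd : IsDegFun f φ d) :
    IsProper ((degZero f φ hd).ι ≫ P.hom) ∧ GeometricallyConnected ((degZero f φ hd).ι ≫ P.hom) := by
  haveI := smooth_f f
  haveI : GeometricallyIntegral f := AbVarLib.geometricallyIntegral_of_smooth f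
  haveI : IsSeparated P.hom := S12413.result f P φ hP
  haveI := isProper_Pw f n
  obtain ⟨hW, -, -⟩ := geometricallyConnected_Pw f n
  let W := Pw f n
  let U := degZero f φ hd
  let a := sumCls f σ hσ n (proj f n)
  let h : W ⟶ P := φ W a.val
  have hr : Set.range h.left ⊆ Set.range U.ι := by
    rw [Scheme.Opens.range_ι]
    rintro _ ⟨w, rfl⟩
    exact (hd.2 W a w).trans (dg_sumCls f σ hσ n _ w)
  let k := IsOpenImmersion.lift U.ι h.left hr
  have hk : k ≫ U.ι = h.left := IsOpenImmersion.lift_fac _ _ _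
  have hks : Surjective k := ⟨fun p => by
    obtain ⟨Ω, _, _, t, ht⟩ := exists_geomPt (U.ι p)
    let T : Over S := Over.mk (t ≫ P.hom)
    let g : T ⟶ P := Over.homMk t rfl
    obtain ⟨c, -, hc⟩ := RigDesc27.exists_phi_eq (σ := σ) (hσ := hσ) (isIso_app_of_sec f σ hσ) hP (T := T) g
    obtain ⟨x, hx⟩ := exists_sum (T := S) f σ hσ φ hP (t ≫ P.hom) c (fun z => by
      rw [← hd.2 T c z, hc]
      show d (t z) = 0
      rw [ht]; exact p.2) n hn
    have e : tuple f n x ≫ h = g := by
      rw [← hc, ← RigDesc27.phi_pull hP, pull_sumCls]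
      exact congrArg (fun b : PicM (PicF.XT f T) => φ T b.val)
        ((congrArg (sumCls f σ hσ n) (funext fun i => tuple_proj f n x i)).trans hx)
    refine ⟨(tuple f n x).left (IsLocalRing.closedPoint Ω), U.ι.injective ?_⟩
    rw [← Scheme.Hom.comp_apply, hk, ← Scheme.Hom.comp_apply, ← Over.comp_left, e]
    exact ht _⟩
  have hkW : k ≫ U.ι ≫ P.hom = W.hom := by rw [reassoc_of% hk]; exact Over.w h
  haveI : UniversallyClosed (k ≫ U.ι ≫ P.hom) := by rw [hkW]; infer_instance
  haveI : UniversallyClosed (U.ι ≫ P.hom) := UniversallyClosed.of_comp_surjective k _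
  refine ⟨{}, ⟨fun K _ y Z fst snd hsq => ?_⟩⟩
  let Z' := pullback fst k
  have hZ' : IsPullback (pullback.snd fst k) (pullback.fst fst k ≫ snd) W.hom y := by
    rw [← hkW]
    exact (IsPullback.of_hasPullback fst k).flip.paste_vert hsq
  haveI : ConnectedSpace ↥Z' := hW.geometrically_connectedSpace y _ _ hZ'
  haveI : Surjective (pullback.fst fst k) := MorphismProperty.pullback_fst (P := @Surjective) _ _ hks
  exact (pullback.fst fst k).surjective.connectedSpace (pullback.fst fst k).continuous

section BC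

variable {S' : Scheme.{u}} (g : S' ⟶ S)

omit [LocallyOfFinitePresentation P.hom] in
/-- The degree functions are compatible with base change. -/
theorem degFun_baseChange (τ : S' ⟶ pullback f g) (hτ : τ ≫ pullback.snd f g = 𝟙 S')
    (hP : AbDual.IsRelPicK Scheme.fppfPrecoverage f P φ) {d : P.left → ℤ} (hd : IsDegFun f φ d) :
    haveI := smoothOfRelativeDimension_isStableUnderBaseChange.{u} 1
    IsDegFun (f' f g) (φ' f g φ) (fun p => d (pullback.fst P.hom g p)) := by
  haveI := smoothOfRelativeDimension_isStableUnderBaseChange.{u} 1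
  haveI : SmoothOfRelativeDimension 1 (f' f g) :=
    MorphismProperty.pullback_snd (P := @SmoothOfRelativeDimension 1) f g inferInstance
  refine ⟨hd.1.comp_continuous (pullback.fst P.hom g).continuous, fun T a t => ?_⟩
  haveI : SmoothOfRelativeDimension 1 (PicF.XTproj f (down g T)) :=
    MorphismProperty.pullback_snd (P := @SmoothOfRelativeDimension 1) f _ inferInstance
  show d (((φ' f g φ T a.val).left ≫ pullback.fst P.hom g) t) = _
  rw [φ'_left_fst]
  refine (hd.2 (down g T) (PicM.pull (tIso f g T).inv a) t).trans ?_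
  have hsq : IsPullback (tIso f g T).hom (PicF.XTproj (f' f g) T) (PicF.XTproj f (down g T)) (𝟙 T.left) :=
    IsPullback.of_horiz_isIso ⟨by rw [tIso_hom_proj]; exact (Category.comp_id _).symm⟩
  have h := dg_baseChange (PicF.XTproj f (down g T)) hsq t (PicM.pull (tIso f g T).inv a)
  rw [PicM.pull_pull, Iso.hom_inv_id, PicM.pull_id] at h
  exact h.symm

/-- Over a quasi-compact base mapping to the family, `Pic⁰` becomes proper. -/
theorem proper_baseChange [CompactSpace S'] (τ : S' ⟶ X) (hτ : τ ≫ f = g)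
    (hP : AbDual.IsRelPicK Scheme.fppfPrecoverage f P φ) {d : P.left → ℤ} (hd : IsDegFun f φ d) :
    IsProper (pullback.snd ((degZero f φ hd).ι ≫ P.hom) g) ∧
      GeometricallyConnected (pullback.snd ((degZero f φ hd).ι ≫ P.hom) g) := by
  haveI := smoothOfRelativeDimension_isStableUnderBaseChange.{u} 1
  haveI : SmoothOfRelativeDimension 1 (f' f g) :=
    MorphismProperty.pullback_snd (P := @SmoothOfRelativeDimension 1) f g inferInstance
  haveI : IsProper (f' f g) := MorphismProperty.pullback_snd (P := @IsProper) f g inferInstance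
  haveI : GeometricallyConnected (f' f g) := MorphismProperty.pullback_snd (P := @GeometricallyConnected) f g inferInstance
  haveI : LocallyOfFinitePresentation (P' g P).hom :=
    MorphismProperty.pullback_snd (P := @LocallyOfFinitePresentation) P.hom g inferInstance
  let σ : S' ⟶ pullback f g := pullback.lift τ (𝟙 S') (hτ.trans (Category.id_comp g).symm)
  have hσ : σ ≫ f' f g = 𝟙 S' := pullback.lift_snd _ _ _
  have hd' := degFun_baseChange f φ g σ hσ hP hd
  obtain ⟨n, hn⟩ := exists_genus_bound (f' f g)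
  obtain ⟨h1, h2⟩ := proper_of_section (f' f g) (φ' f g φ) σ hσ n hn (isRelPicK f g φ hP) hd'
  let U := degZero f φ hd
  let U' := degZero (f' f g) (φ' f g φ) hd'
  have hU : U' = pullback.fst P.hom g ⁻¹ᵁ U := rfl
  have hsq : IsPullback (pullback.fst P.hom g ∣_ U) ((pullback.fst P.hom g ⁻¹ᵁ U).ι ≫ pullback.snd P.hom g)
      (U.ι ≫ P.hom) g :=
    (isPullback_morphismRestrict (pullback.fst P.hom g) U).paste_vert (IsPullback.of_hasPullback P.hom g)
  rw [← hsq.isoPullback_inv_snd]
  haveI : IsProper ((pullback.fst P.hom g ⁻¹ᵁ U).ι ≫ pullback.snd P.hom g) := h1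
  haveI : GeometricallyConnected ((pullback.fst P.hom g ⁻¹ᵁ U).ι ≫ pullback.snd P.hom g) := h2
  refine ⟨inferInstance, ⟨fun K _ y Z fst snd hz => ?_⟩⟩
  exact h2.geometrically_connectedSpace y (fst ≫ hsq.isoPullback.inv) snd
    (hz.of_iso (Iso.refl _) hsq.isoPullback.symm (Iso.refl _) (Iso.refl _) (by simp) (by simp) (by simp; exact hsq.isoPullback_inv_snd.symm) (by simp))

end BC

/-- `Pic⁰` of a family of smooth curves is proper with connected geometric fibres. -/
theorem proper_degZero (hP : AbDual.IsRelPicK Scheme.fppfPrecoverage f P φ) {d : P.left → ℤ}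
    (hd : IsDegFun f φ d) :
    IsProper ((degZero f φ hd).ι ≫ P.hom) ∧ GeometricallyConnected ((degZero f φ hd).ι ≫ P.hom) := by
  haveI := smooth_f f
  let q := (degZero f φ hd).ι ≫ P.hom
  have hbc : ∀ V : S.affineOpens, IsProper (pullback.snd q ((f ⁻¹ᵁ V.1).ι ≫ f)) ∧
      GeometricallyConnected (pullback.snd q ((f ⁻¹ᵁ V.1).ι ≫ f)) := fun V => by
    haveI : CompactSpace ↥((f ⁻¹ᵁ V.1).toScheme) :=
      isCompact_iff_compactSpace.1 (f.isCompact_preimage V.2.isCompact)
    exact proper_baseChange f φ ((f ⁻¹ᵁ V.1).ι ≫ f) (f ⁻¹ᵁ V.1).ι rfl hP hd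
  refine ⟨?_, ⟨fun K _ y Z fst snd hsq => ?_⟩⟩
  · rw [IsZariskiLocalAtTarget.iff_of_iSup_eq_top (P := @IsProper) (U := fun V : S.affineOpens => V.1)
      (iSup_affineOpens_eq_top S)]
    intro V
    let fV := f ∣_ V.1
    haveI : QuasiCompact fV := inferInstance
    haveI : Surjective fV := inferInstance
    haveI : MorphismProperty.DescendsAlong @IsProper (@Surjective ⊓ @Flat ⊓ @QuasiCompact : MorphismProperty Scheme.{u}) :=
      Et18.descends_isProper
    refine MorphismProperty.of_pullback_snd_of_descendsAlong (P := @IsProper)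
      (Q := @Surjective ⊓ @Flat ⊓ @QuasiCompact) (f := q ∣_ V.1) (g := fV)
      ⟨⟨inferInstance, inferInstance⟩, inferInstance⟩ ?_
    have hp := (hbc V).1
    have hbig : IsPullback (pullback.fst (q ∣_ V.1) fV ≫ (q ⁻¹ᵁ V.1).ι) (pullback.snd (q ∣_ V.1) fV) q
        ((f ⁻¹ᵁ V.1).ι ≫ f) := by
      rw [← morphismRestrict_ι]
      exact (IsPullback.of_hasPullback _ _).paste_horiz (isPullback_morphismRestrict q V.1).flip
    rw [← hbig.isoPullback_hom_snd]
    infer_instance
  · obtain ⟨x, hx⟩ := f.surjective (y (IsLocalRing.closedPoint K))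
    obtain ⟨V, hV, hxV, -⟩ := exists_isAffineOpen_mem_and_subset (U := ⊤) (x := f x) trivial
    obtain ⟨z, hz1, hz2⟩ := Scheme.Pullback.exists_preimage_pullback (f := (f ⁻¹ᵁ V).ι ≫ f) (g := y)
      ⟨x, hxV⟩ (IsLocalRing.closedPoint K) hx
    obtain ⟨L, _, _, t, -⟩ := exists_geomPt z
    let j := t ≫ pullback.snd ((f ⁻¹ᵁ V).ι ≫ f) y
    let y' := t ≫ pullback.fst ((f ⁻¹ᵁ V).ι ≫ f) y
    have hyj : y' ≫ (f ⁻¹ᵁ V).ι ≫ f = j ≫ y := by simp [y', j, pullback.condition]
    have hjs : Surjective j := ⟨fun w => ⟨IsLocalRing.closedPoint L, Subsingleton.elim (α := PrimeSpectrum K) _ w⟩⟩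
    let Z' := pullback snd j
    have hZ' : IsPullback (pullback.fst snd j ≫ fst) (pullback.snd snd j) q (j ≫ y) :=
      (IsPullback.of_hasPullback snd j).paste_horiz hsq
    let l : Z' ⟶ pullback q ((f ⁻¹ᵁ V).ι ≫ f) := pullback.lift (pullback.fst snd j ≫ fst) (pullback.snd snd j ≫ y')
      (by rw [hZ'.w, Category.assoc]; exact congrArg (pullback.snd snd j ≫ ·) hyj.symm)
    have hl : IsPullback l (pullback.snd snd j) (pullback.snd q ((f ⁻¹ᵁ V).ι ≫ f)) y' := by
      refine IsPullback.of_right ?_ (pullback.lift_snd _ _ _) (IsPullback.of_hasPullback _ _)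
      rw [pullback.lift_fst, hyj]
      exact hZ'
    haveI : ConnectedSpace ↥Z' := (hbc ⟨V, hV⟩).2.geometrically_connectedSpace y' _ _ hl
    haveI : Surjective (pullback.fst snd j) := MorphismProperty.pullback_fst (P := @Surjective) _ _ hjs
    exact (pullback.fst snd j).surjective.connectedSpace (pullback.fst snd j).continuous

end Groth.Agent.PicBC5
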