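import Groth.Agent.PicBC5.ZeroTangent
import Groth.Agent.DimLib.BaseChange

/-!
# Base change of the sheafified `Pic⁰` of a family of curves; dimension of its fibres
-/

set_option autoImplicit false
set_option backward.isDefEq.respectTransparency.types false
set_option linter.style.haveILetI false

universe u

open CategoryTheory CategoryTheory.Limits AlgebraicGeometry IsLocalRing
open Groth.Agent.PicLib Groth.Agent.EllGrp5

namespace Groth.Agent.PicBC5

variable {X S S' : Scheme.{u}} (f : X ⟶ S) (g : S' ⟶ S)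
  [IsProper f] [SmoothOfRelativeDimension 1 f] [GeometricallyConnected f]
  [IsProper (f' f g)] [SmoothOfRelativeDimension 1 (f' f g)] [GeometricallyConnected (f' f g)]

theorem dgz_tIso {T : Over S'} {a : PicM (PicF.XT (f' f g) T)} :
    Dgz f (PicM.pull (tIso f g T).inv a) ↔ Dgz (f' f g) a := by
  haveI := smoothRD_XTproj f (down g T)
  have hsq : IsPullback (tIso f g T).hom (PicF.XTproj (f' f g) T) (PicF.XTproj f (down g T)) (𝟙 T.left) :=
    IsPullback.of_horiz_isIso ⟨by rw [tIso_hom_proj]; exact (Category.comp_id _).symm⟩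
  have h : ∀ t, dg (PicF.XTproj (f' f g) T) t a = dg (PicF.XTproj f (down g T)) t (PicM.pull (tIso f g T).inv a) := by
    intro t
    have h := dg_baseChange (PicF.XTproj f (down g T)) hsq t (PicM.pull (tIso f g T).inv a)
    rwa [PicM.pull_pull, Iso.hom_inv_id, PicM.pull_id] at h
  exact ⟨fun ha t => (h t).trans (ha t), fun ha t => (h t).symm.trans (ha t)⟩

theorem pz_down {T : Over S'} {c : PicF.Cl (PicF.XT (f' f g) T)} (hc : AbDual.IsPicZeroCl (f' f g) T c) :
    AbDual.IsPicZeroCl f (down g T) (down' f g c) := by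
  obtain ⟨L, rfl, hL, ht⟩ := hc
  exact ((dgz_tIso f g).2 (dgz_of_cl (f' f g) (a := PicM.of hL) ⟨L, rfl, hL, ht⟩)).cl f

theorem isRelPicZeroK {P : Over S} (φ : ∀ T : Over S, PicF.Cl (PicF.XT f T) → (T ⟶ P))
    (hP : AbDual.IsRelPicZeroK Scheme.fppfPrecoverage f P φ) :
    AbDual.IsRelPicZeroK Scheme.fppfPrecoverage (f' f g) (P' g P) (φ' f g φ) where
  natural T T' h c hc := by
    have hc' : PicF.IsInvertibleCl c := hc.imp fun L h => ⟨h.1, h.2.1⟩
    refine hom_ext_P' ?_
    rw [Over.comp_left, Category.assoc, φ'_left_fst, φ'_left_fst, down'_natural f g h hc',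
      hP.natural _ _ (downMap g h) (down' f g c) (pz_down f g hc)]
    rfl
  locallySurjective T x := by
    let y : down g T ⟶ P := Over.homMk (x.left ≫ pullback.fst P.hom g) (by
      show (x.left ≫ pullback.fst P.hom g) ≫ P.hom = T.hom ≫ g
      rw [Category.assoc, pullback.condition, ← Category.assoc]
      exact congrArg (· ≫ g) (Over.w x))
    obtain ⟨R, hR, hRc⟩ := hP.locallySurjective (down g T) y
    refine ⟨R, hR, fun U u hu => ?_⟩
    obtain ⟨c, hc, hcy⟩ := hRc u hu
    let w : down g (AbDual.ovr T u) ⟶ AbDual.ovr (down g T) u := Over.homMk (𝟙 U) (by simp)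
    let c₁ := PicF.pullCl (PicF.XTmap f w) c
    obtain ⟨L, hLc, hL, ht⟩ := id hc
    subst hLc
    have h₁ : Dgz f (PicM.pull (PicF.XTmap f w) (PicM.of hL)) :=
      (dgz_of_cl f (a := PicM.of hL) ⟨L, rfl, hL, ht⟩).pull f w
    have hc₁ : PicF.IsInvertibleCl c₁ := PicLoc.isInvertibleCl_pullCl _ ⟨L, rfl, hL⟩
    have hd : down' f g (PicF.pullCl (tIso f g (AbDual.ovr T u)).hom c₁) = c₁ := by
      rw [down', pullCl_pullCl _ _ hc₁, Iso.inv_hom_id]
      exact congrArg (fun z : PicM _ => z.val) (PicM.pull_id (⟨c₁, hc₁⟩ : PicM _))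
    have h₂ : Dgz (f' f g) (PicM.pull (tIso f g (AbDual.ovr T u)).hom (PicM.pull (PicF.XTmap f w) (PicM.of hL))) := by
      rw [← dgz_tIso, PicM.pull_pull, Iso.inv_hom_id, PicM.pull_id]
      exact h₁
    refine ⟨PicF.pullCl (tIso f g (AbDual.ovr T u)).hom c₁, h₂.cl (f' f g), hom_ext_P' ?_⟩
    rw [φ'_left_fst, hd, hP.natural _ _ w _ hc, hcy]
    show 𝟙 U ≫ u ≫ x.left ≫ pullback.fst P.hom g = (u ≫ x.left) ≫ pullback.fst P.hom g
    rw [Category.id_comp, Category.assoc]
  locallyInjective T c c' hc hc' h := by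
    have hci : PicF.IsInvertibleCl c := hc.imp fun L h => ⟨h.1, h.2.1⟩
    have hci' : PicF.IsInvertibleCl c' := hc'.imp fun L h => ⟨h.1, h.2.1⟩
    have e : φ (down g T) (down' f g c) = φ (down g T) (down' f g c') :=
      Over.OverMorphism.ext (by rw [← φ'_left_fst, ← φ'_left_fst, h])
    obtain ⟨R, hR, hRc⟩ := hP.locallyInjective (down g T) _ _ (pz_down f g hc) (pz_down f g hc') e
    refine ⟨R, hR, fun U u hu => ?_⟩
    let w : down g (AbDual.ovr T u) ⟶ AbDual.ovr (down g T) u := Over.homMk (𝟙 U) (by simp)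
    have hw : downMap g (AbDual.ovrHom T u) = w ≫ AbDual.ovrHom (down g T) u :=
      Over.OverMorphism.ext (Category.id_comp u).symm
    have key := congrArg (PicF.pullCl (PicF.XTmap f w)) (hRc u hu)
    have hd : ∀ {d : PicF.Cl (PicF.XT (f' f g) T)}, PicF.IsInvertibleCl d →
        PicF.pullCl (tIso f g _).hom (PicF.pullCl (PicF.XTmap f w)
          (PicF.pullCl (PicF.XTmap f (AbDual.ovrHom (down g T) u)) (down' f g d))) =
        PicF.pullCl (PicF.XTmap (f' f g) (AbDual.ovrHom T u)) d := by
      intro d hd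
      rw [down', pullCl_pullCl _ _ (PicLoc.isInvertibleCl_pullCl _ hd),
        pullCl_pullCl _ _ (PicLoc.isInvertibleCl_pullCl _ hd), pullCl_pullCl _ _ hd]
      congr 1
      rw [← RigDesc27.XTmap_comp, ← hw, Category.assoc, reassoc_of% (tIso_natural f g (AbDual.ovrHom T u)),
        Iso.hom_inv_id, Category.comp_id]
    have key2 := congrArg (PicF.pullCl (tIso f g (AbDual.ovr T u)).hom) key
    exact (hd hci).symm.trans (key2.trans (hd hci'))

omit [IsProper (f' f g)] [SmoothOfRelativeDimension 1 (f' f g)] [GeometricallyConnected (f' f g)] in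
/-- The fibres of the sheafified `Pic⁰` have dimension the genus. -/
theorem dim_fiber_zero (hdim : ∀ s : S, topologicalKrullDim ↥(f.fiber s) = 1)
    {P₀ : Over S} {φ₀ : ∀ T : Over S, PicF.Cl (PicF.XT f T) → (T ⟶ P₀)} [LocallyOfFinitePresentation P₀.hom]
    (hP₀ : AbDual.IsRelPicZeroK Scheme.fppfPrecoverage f P₀ φ₀) (s : S) :
    topologicalKrullDim ↥(P₀.hom.fiber s) =
      (CohIII.fiberRank f (Coh.structureModule X) 1 s : WithBot ℕ∞) := by
  haveI := smoothOfRelativeDimension_isStableUnderBaseChange.{u} 1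
  let K := AlgebraicClosure (S.residueField s)
  let r : Spec (CommRingCat.of K) ⟶ Spec (S.residueField s) :=
    Spec.map (CommRingCat.ofHom (algebraMap (S.residueField s) K))
  let b : Spec (CommRingCat.of K) ⟶ S := r ≫ S.fromSpecResidueField s
  have hbs : b (closedPoint K) = s := by
    show (r ≫ S.fromSpecResidueField s) (closedPoint K) = s
    rw [Scheme.Hom.comp_apply, Scheme.fromSpecResidueField_apply]
  let π : pullback f b ⟶ Spec (CommRingCat.of K) := f' f b
  haveI : IsProper π := MorphismProperty.pullback_snd (P := @IsProper) f b inferInstance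
  haveI : SmoothOfRelativeDimension 1 π :=
    MorphismProperty.pullback_snd (P := @SmoothOfRelativeDimension 1) f b inferInstance
  haveI : GeometricallyConnected π := MorphismProperty.pullback_snd (P := @GeometricallyConnected) f b inferInstance
  haveI : LocallyOfFinitePresentation (P' b P₀).hom :=
    MorphismProperty.pullback_snd (P := @LocallyOfFinitePresentation) P₀.hom b inferInstance
  haveI : ConnectedSpace ↥(pullback f b) :=
    GeometricallyConnected.geometrically_connectedSpace (f := f) b (pullback.fst f b) (pullback.snd f b)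
      (IsPullback.of_hasPullback f b)
  obtain ⟨σ, hσ⟩ := H8Coh.NthPower.exists_point (k := K) π
  have hd : ∀ y, topologicalKrullDim ↥(π.fiber y) ≤ (1 : ℕ) := fun y =>
    (Coherent.CohBC.topologicalKrullDim_fiber_of_isPullback (IsPullback.of_hasPullback f b) y).trans_le
      (by exact_mod_cast (hdim _).le)
  have hmain := dim_zero π σ hσ (isRelPicZeroK f b φ₀ hP₀) hd
  have hgen := finrank_h1_geom f b
  rw [hbs] at hgen
  rw [← hgen]
  refine Eq.trans ?_ hmain
  -- the geometric fibre of `P₀`
  let q : P₀.hom.fiber s ⟶ Spec (CommRingCat.of (S.residueField s)) := P₀.hom.fiberToSpecResidueField s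
  haveI : LocallyOfFiniteType q :=
    MorphismProperty.pullback_snd (P := @LocallyOfFiniteType) P₀.hom _ inferInstance
  have e₁ := DimLib.topologicalKrullDim_bc q K
  have e₂ : pullback (P₀.hom.fiberToSpecResidueField s) r ≅ pullback P₀.hom b :=
    pullbackLeftPullbackSndIso P₀.hom (S.fromSpecResidueField s) r
  exact e₁.symm.trans (e₂.hom.homeomorph.isHomeomorph.topologicalKrullDim_eq)

end Groth.Agent.PicBC5
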