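import Groth.Agent.PicBC5.DegZero
import Groth.Agent.RigDesc27.Points

/-!
# Rigidified classes of degree zero and points of the sheafified `Pic⁰`
-/

set_option autoImplicit false
set_option backward.isDefEq.respectTransparency.types false
set_option linter.style.haveILetI false

universe u

open CategoryTheory CategoryTheory.Limits AlgebraicGeometry
open Groth.Agent.PicLib Groth.Agent.EllGrp5 Groth.Agent.RigDesc27

namespace Groth.Agent.PicBC5

variable {X S : Scheme.{u}} (f : X ⟶ S) [IsProper f] [SmoothOfRelativeDimension 1 f] [GeometricallyConnected f]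

/-- Classes of degree zero on all fibres. -/
def Dgz {V : Over S} (a : PicM (PicF.XT f V)) : Prop := ∀ t, dg (PicF.XTproj f V) t a = 0

theorem smoothRD_XTproj (V : Over S) : SmoothOfRelativeDimension 1 (PicF.XTproj f V) :=
  haveI := smoothOfRelativeDimension_isStableUnderBaseChange.{u} 1
  MorphismProperty.pullback_snd (P := @SmoothOfRelativeDimension 1) _ _ inferInstance

theorem Dgz.pull {V V' : Over S} (g : V' ⟶ V) {a : PicM (PicF.XT f V)} (h : Dgz f a) :
    Dgz f (PicM.pull (PicF.XTmap f g) a) := fun t => by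
  haveI := smoothRD_XTproj f V
  exact (dg_baseChange (PicF.XTproj f V) (RigDesc27.isPullback_XTmap (f := f) g) t a).trans (h _)

theorem Dgz.of_pull {V V' : Over S} (g : V' ⟶ V) {a : PicM (PicF.XT f V)}
    (h : Dgz f (PicM.pull (PicF.XTmap f g) a)) (t : V'.left) : dg (PicF.XTproj f V) (g.left t) a = 0 := by
  haveI := smoothRD_XTproj f V
  exact (dg_baseChange (PicF.XTproj f V) (RigDesc27.isPullback_XTmap (f := f) g) t a).symm.trans (h t)

theorem Dgz.mul_base {V : Over S} {a : PicM (PicF.XT f V)} (h : Dgz f a) (N : PicM V.left) :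
    Dgz f (a * PicM.pull (PicF.XTproj f V) N) := fun t => by
  haveI := smoothRD_XTproj f V
  rw [dg_mul, dg_pull, h t, add_zero]

theorem Dgz.one (V : Over S) : Dgz f (1 : PicM (PicF.XT f V)) := fun t => by
  haveI := smoothRD_XTproj f V
  exact dg_one _ t

theorem Dgz.cl {V : Over S} {a : PicM (PicF.XT f V)} (h : Dgz f a) : AbDual.IsPicZeroCl f V a.val :=
  (isPicZeroCl_iff f V a).2 h

theorem dgz_of_cl {V : Over S} {a : PicM (PicF.XT f V)} (h : AbDual.IsPicZeroCl f V a.val) : Dgz f a :=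
  (isPicZeroCl_iff f V a).1 h

variable {σ : S ⟶ X} {hσ : σ ≫ f = 𝟙 S} {P₀ : Over S} {φ₀ : ∀ T : Over S, PicF.Cl (PicF.XT f T) → (T ⟶ P₀)}
  (hP₀ : AbDual.IsRelPicZeroK Scheme.fppfPrecoverage f P₀ φ₀)
include hP₀

theorem phi₀_pull {V V' : Over S} (g : V' ⟶ V) {a : PicM (PicF.XT f V)} (h : Dgz f a) :
    φ₀ V' (PicM.pull (PicF.XTmap f g) a).val = g ≫ φ₀ V a.val :=
  hP₀.natural V V' g a.val (h.cl f)

theorem phi₀_mul_base {V : Over S} {a : PicM (PicF.XT f V)} (h : Dgz f a)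
    (N : PicM V.left) : φ₀ V (a * PicM.pull (PicF.XTproj f V) N).val = φ₀ V a.val := by
  obtain ⟨M, hM, rfl⟩ := PicM.exists_eq_of N
  choose U hyU g hg using fun y => exists_isGen hM y
  refine Over.OverMorphism.ext ((V.left.openCoverOfIsOpenCover U
    (top_le_iff.1 fun y _ => TopologicalSpace.Opens.mem_iSup.2 ⟨y, hyU y⟩)).hom_ext _ _ fun y => ?_)
  show (U y).ι ≫ _ = (U y).ι ≫ _
  let W : Over S := Over.mk ((U y).ι ≫ V.hom)
  let w : W ⟶ V := Over.homMk (U y).ι rfl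
  have e : w ≫ φ₀ V (a * PicM.pull (PicF.XTproj f V) (PicM.of hM)).val = w ≫ φ₀ V a.val := by
    rw [← phi₀_pull f hP₀ w h, ← phi₀_pull f hP₀ w (h.mul_base f (PicM.of hM)), map_mul, PicM.pull_pull,
      RigDesc27.XTmap_proj, ← PicM.pull_pull,
      show PicM.pull w.left (PicM.of hM) = 1 from pull_eq_one_of_isGen (U y).ι hM (hg y) (U y).ι_preimage_self,
      map_one, _root_.mul_one]
  exact congrArg (fun z => Over.Hom.left z) e

variable {T : Over S} (ha : ∀ (V : Over S) (O : V.left.Opens), IsIso ((PicF.XTproj f V).app O))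
include ha

/-- Injectivity on rigidified classes of degree zero. -/
theorem eq_of_phi₀_eq (c c' : PicM (PicF.XT f T)) (h0 : Dgz f c) (h0' : Dgz f c')
    (hc : PicM.pull (PicF.secT f σ hσ T) c = 1) (hc' : PicM.pull (PicF.secT f σ hσ T) c' = 1)
    (h : φ₀ T c.val = φ₀ T c'.val) : c = c' := by
  obtain ⟨R, hR, hloc⟩ := hP₀.locallyInjective T c.val c'.val (h0.cl f) (h0'.cl f) h
  obtain ⟨C⟩ := exists_cover_of_fppf hR
  haveI : Flat C.w.left := C.flat
  haveI : LocallyOfFinitePresentation C.w.left := C.lfp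
  haveI : Surjective C.w.left := C.surj
  haveI : ∀ i, IsOpenImmersion (PicF.XTmap f (C.inc i)) := C.isOpenImmersion_inc
  obtain ⟨b, hb⟩ := PicM.exists_mul_eq_one (PicM.pull (PicF.XTmap f C.w) c')
  have h1 : PicM.pull (PicF.XTmap f C.w) c * b = 1 := by
    refine eq_one_of_disjoint (fun i => PicF.XTmap f (C.inc i)) C.exists_inc C.inc_disjoint _ fun i => ?_
    have h2 : PicM.pull (PicF.XTmap f (C.inc i)) (PicM.pull (PicF.XTmap f C.w) c) =
        PicM.pull (PicF.XTmap f (C.inc i)) (PicM.pull (PicF.XTmap f C.w) c') := by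
      rw [PicM.pull_pull, PicM.pull_pull, ← RigDesc27.XTmap_comp, Cover.inc_w]
      exact PicM.ext (hloc (C.map i) (C.mem i))
    rw [map_mul, h2, ← map_mul, hb, map_one]
  have h3 : PicM.pull (PicF.XTmap f C.w) c = PicM.pull (PicF.XTmap f C.w) c' := PicM.eq_of_mul_inv hb h1
  exact (existsUnique_descend (w := C.w) ha _ (pull_secT_XTmap C.w c' hc') fun V g₁ g₂ hg => by
    rw [PicM.pull_pull, PicM.pull_pull, ← RigDesc27.XTmap_comp, ← RigDesc27.XTmap_comp, hg]).unique ⟨hc, h3⟩ ⟨hc', rfl⟩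

/-- Every point comes from a rigidified class of degree zero. -/
theorem exists_phi₀_eq (g : T ⟶ P₀) :
    ∃ d : PicM (PicF.XT f T), Dgz f d ∧ PicM.pull (PicF.secT f σ hσ T) d = 1 ∧ φ₀ T d.val = g := by
  obtain ⟨R, hR, hloc⟩ := hP₀.locallySurjective T g
  obtain ⟨C⟩ := exists_cover_of_fppf hR
  haveI : Flat C.w.left := C.flat
  haveI : LocallyOfFinitePresentation C.w.left := C.lfp
  haveI : Surjective C.w.left := C.surj
  haveI : ∀ i, IsOpenImmersion (PicF.XTmap f (C.inc i)) := C.isOpenImmersion_inc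
  have hr : ∀ i, ∃ r : PicM (PicF.XT f (AbDual.ovr T (C.map i))), Dgz f r ∧
      PicM.pull (PicF.secT f σ hσ _) r = 1 ∧ φ₀ _ r.val = AbDual.ovrHom T (C.map i) ≫ g := by
    intro i
    obtain ⟨c, hc, hcg⟩ := hloc (C.map i) (C.mem i)
    obtain ⟨L, rfl, hL, ht⟩ := hc
    have h0 : Dgz f (PicM.of hL) := dgz_of_cl f (a := PicM.of hL) ⟨L, rfl, hL, ht⟩
    obtain ⟨N, hN⟩ := PicM.exists_mul_eq_one (PicM.pull (PicF.secT f σ hσ (AbDual.ovr T (C.map i))) (PicM.of hL))
    refine ⟨PicM.of hL * PicM.pull (PicF.XTproj f _) N, h0.mul_base f N, ?_, (phi₀_mul_base f hP₀ h0 N).trans hcg⟩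
    rw [map_mul, PicM.pull_pull (g := PicF.XTproj f _), secT_proj, PicM.pull_id, hN]
  choose r hr0 hrσ hrg using hr
  obtain ⟨b, hb⟩ := exists_class_of_disjoint (fun i => PicF.XTmap f (C.inc i)) C.exists_inc C.inc_disjoint r
  have hb0 : Dgz f b := fun w => by
    obtain ⟨i, z, hz⟩ : ∃ i z, (C.inc i).left z = w := by
      obtain ⟨z, hz⟩ := (sigmaOpenCover C.U).covers w
      exact ⟨_, z, hz⟩
    subst hz
    exact Dgz.of_pull f (C.inc i) (a := b) (by rw [hb i]; exact hr0 i) z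
  obtain ⟨N, hN⟩ := PicM.exists_mul_eq_one (PicM.pull (PicF.secT f σ hσ C.W) b)
  let b' := b * PicM.pull (PicF.XTproj f C.W) N
  have hb'0 : Dgz f b' := hb0.mul_base f N
  have hb'σ : PicM.pull (PicF.secT f σ hσ C.W) b' = 1 := by
    rw [map_mul, PicM.pull_pull (g := PicF.XTproj f _), secT_proj, PicM.pull_id, hN]
  have hb'g : φ₀ C.W b'.val = C.w ≫ g := by
    refine Over.OverMorphism.ext (Sigma.hom_ext _ _ fun i => ?_)
    have e : C.inc i ≫ φ₀ C.W b'.val = C.inc i ≫ C.w ≫ g := by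
      rw [phi₀_mul_base f hP₀ hb0, ← phi₀_pull f hP₀ (C.inc i) hb0, hb i, hrg, ← Category.assoc, Cover.inc_w]
    exact congrArg (fun z => Over.Hom.left z) e
  obtain ⟨d, ⟨hd, hdw⟩, -⟩ := existsUnique_descend (w := C.w) ha b' hb'σ fun V g₁ g₂ hg =>
    eq_of_phi₀_eq (T := V) f hP₀ ha _ _ (hb'0.pull f g₁) (hb'0.pull f g₂)
      (pull_secT_XTmap g₁ b' hb'σ) (pull_secT_XTmap g₂ b' hb'σ)
      (by rw [phi₀_pull f hP₀ g₁ hb'0, phi₀_pull f hP₀ g₂ hb'0, hb'g, ← Category.assoc, hg, Category.assoc])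
  have hd0 : Dgz f d := fun t => by
    obtain ⟨w, rfl⟩ := C.w.left.surjective t
    exact Dgz.of_pull f C.w (a := d) (by rw [hdw]; exact hb'0) w
  refine ⟨d, hd0, hd, ?_⟩
  have e : C.w ≫ φ₀ T d.val = C.w ≫ g := by rw [← phi₀_pull f hP₀ C.w hd0, hdw, hb'g]
  haveI : Epi C.w.left := Flat.epi_of_flat_of_surjective _
  haveI : Epi C.w := Over.epi_of_epi_left _
  exact (cancel_epi C.w).1 e

end Groth.Agent.PicBC5
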