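import Groth.Agent.PicBC5.ZeroPoints
import Groth.Agent.PicBC5.Smooth
import Groth.Agent.PicBC5.Jacobian
import Groth.Agent.H8Coh.PicTangentDim
import Groth.Agent.H8Coh.RatPointDim
import Groth.Agent.H8Coh.JacobianTan
import Mathlib.RingTheory.DualNumber

/-!
# The sheafified `Pic⁰` of a curve over an algebraically closed field: smoothness, tangent spaces, dimension
-/

set_option autoImplicit false
set_option backward.isDefEq.respectTransparency.types false
set_option linter.style.haveILetI false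

universe u

open CategoryTheory CategoryTheory.Limits AlgebraicGeometry IsLocalRing
open Groth.Agent.PicLib Groth.Agent.EllGrp5 Groth.Agent.RigDesc27

namespace Groth.Agent.PicBC5

section Smooth

variable {X S : Scheme.{u}} (f : X ⟶ S) [IsProper f] [SmoothOfRelativeDimension 1 f] [GeometricallyConnected f]

theorem surjective_spec_of_sq {B B' : Type u} [CommRing B] [CommRing B'] (ψ : B' →+* B) (hψ : Function.Surjective ψ)
    (hsq : RingHom.ker ψ ^ 2 = ⊥) : Surjective (Spec.map (CommRingCat.ofHom ψ)) := by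
  refine ⟨fun p => ?_⟩
  have h : (p : PrimeSpectrum B') ∈ Set.range (PrimeSpectrum.comap ψ) := by
    rw [range_comap_of_surjective _ _ hψ]
    intro x hx
    refine p.isPrime.mem_of_pow_mem 2 ?_
    have : x ^ 2 ∈ RingHom.ker ψ ^ 2 := Ideal.pow_mem_pow hx 2
    rw [hsq, Ideal.mem_bot] at this
    rw [this]
    exact zero_mem _
  exact h

theorem dgz_of_pull_surj {V V' : Over S} (g : V' ⟶ V) [Surjective g.left] {a : PicM (PicF.XT f V)}
    (h : Dgz f (PicM.pull (PicF.XTmap f g) a)) : Dgz f a := fun t => by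
  obtain ⟨z, rfl⟩ := g.left.surjective t
  exact Dgz.of_pull f g h z

variable {P₀ : Over S} {φ₀ : ∀ T : Over S, PicF.Cl (PicF.XT f T) → (T ⟶ P₀)}
  [LocallyOfFinitePresentation P₀.hom]

/-- With a section, a scheme representing the sheafified `Pic⁰` is smooth. -/
theorem smooth_zero_of_section (hd : ∀ s : S, topologicalKrullDim ↥(f.fiber s) ≤ (1 : ℕ))
    (σ : S ⟶ X) (hσ : σ ≫ f = 𝟙 S) (hP₀ : AbDual.IsRelPicZeroK Scheme.fppfPrecoverage f P₀ φ₀) :
    Smooth P₀.hom := by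
  have hpt : ∀ x : P₀.left, ∃ U : P₀.left.Opens, x ∈ U ∧ Smooth (U.ι ≫ P₀.hom) := fun x => by
    rw [SmoothLib.smooth_nhd_iff, Unram17Lib.formallySmooth_stalkMap_iff_lifting]
    intro B B' _ _ _ _ ψ hψ hker α β _ hβ
    let T : Over S := Over.mk β
    let T₀ : Over S := Over.mk (Spec.map (CommRingCat.ofHom ψ) ≫ β)
    let it : T₀ ⟶ T := Over.homMk (Spec.map (CommRingCat.ofHom ψ)) rfl
    haveI : Surjective it.left := surjective_spec_of_sq ψ hψ hker
    let a : T₀ ⟶ P₀ := Over.homMk α hβ.symm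
    obtain ⟨c, hc0, -, hca⟩ := exists_phi₀_eq (σ := σ) (hσ := hσ) f hP₀ (isIso_app_of_sec f σ hσ) (T := T₀) a
    let π : PicF.XT f T ⟶ Spec (CommRingCat.of B') := PicF.XTproj f T
    haveI : IsProper π := MorphismProperty.pullback_snd (P := @IsProper) _ _ inferInstance
    obtain ⟨d, hdc⟩ := exists_lift ψ hψ hker π
      (fun y => (Coherent.CohBC.topologicalKrullDim_fiber_of_isPullback
        (IsPullback.of_hasPullback f T.hom) y).trans_le (hd _))
      (RigDesc27.isPullback_XTmap (f := f) it : IsPullback (PicF.XTmap f it) (PicF.XTproj f T₀) π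
        (Spec.map (CommRingCat.ofHom ψ))) c
    have hd0 : Dgz f d := dgz_of_pull_surj f it (by rw [hdc]; exact hc0)
    refine ⟨(φ₀ T d.val).left, ?_, Over.w _⟩
    have e : it ≫ φ₀ T d.val = a := by rw [← phi₀_pull f hP₀ it hd0, hdc, hca]
    exact congrArg (fun z => Over.Hom.left z) e
  choose U hxU hU using hpt
  exact IsZariskiLocalAtSource.of_iSup_eq_top (P := @Smooth) U
    (eq_top_iff.2 fun x _ => TopologicalSpace.Opens.mem_iSup.2 ⟨x, hxU x⟩) hU

end Smooth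

section Field

open H8Coh.PicTangent H8Coh.NthPower

variable {Ω : Type u} [Field Ω] [IsAlgClosed Ω] {X : Scheme.{u}} (f : X ⟶ Spec (CommRingCat.of Ω))
  [IsProper f] [SmoothOfRelativeDimension 1 f] [GeometricallyConnected f]
  {P₀ : Over (Spec (CommRingCat.of Ω))}
  {φ₀ : ∀ T : Over (Spec (CommRingCat.of Ω)), PicF.Cl (PicF.XT f T) → (T ⟶ P₀)}
  (σ : Spec (CommRingCat.of Ω) ⟶ X) (hσ : σ ≫ f = 𝟙 _)
  (hP₀ : AbDual.IsRelPicZeroK Scheme.fppfPrecoverage f P₀ φ₀)

/-- The base as an object over itself. -/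
noncomputable abbrev pt₁ (Ω : Type u) [Field Ω] : Over (Spec (CommRingCat.of Ω)) :=
  Over.mk (𝟙 (Spec (CommRingCat.of Ω)))

/-- A class of the special point spread to every base. -/
noncomputable def cT (c : PicM (PicF.XT f (pt₁ Ω))) (T : Over (Spec (CommRingCat.of Ω))) : PicM (PicF.XT f T) :=
  PicM.pull (PicF.XTmap f (Over.homMk T.hom (Category.comp_id _) : T ⟶ pt₁ Ω)) c

open Classical in
/-- The classifying map translated by a class. -/
noncomputable def φc (φ₀ : ∀ T : Over (Spec (CommRingCat.of Ω)), PicF.Cl (PicF.XT f T) → (T ⟶ P₀))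
    (c : PicM (PicF.XT f (pt₁ Ω))) (T : Over (Spec (CommRingCat.of Ω))) (z : PicF.Cl (PicF.XT f T)) : T ⟶ P₀ :=
  if h : PicF.IsInvertibleCl z then φ₀ T ((⟨z, h⟩ : PicM (PicF.XT f T)) * cT f c T).val else φ₀ T z

omit [IsAlgClosed Ω] [IsProper f] [SmoothOfRelativeDimension 1 f] [GeometricallyConnected f] in
theorem ψ_φc (c : PicM (PicF.XT f (pt₁ Ω))) (T : Over (Spec (CommRingCat.of Ω))) (a : PicM (PicF.XT f T)) :
    ψ (φc f φ₀ c) T a = φ₀ T (a * cT f c T).val := by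
  rw [ψ, φc, dif_pos (isInvertibleCl_val a)]

omit [IsAlgClosed Ω] [IsProper f] [SmoothOfRelativeDimension 1 f] [GeometricallyConnected f] in
theorem pull_cT (c : PicM (PicF.XT f (pt₁ Ω))) {T T' : Over (Spec (CommRingCat.of Ω))} (g : T' ⟶ T) :
    PicM.pull (PicF.XTmap f g) (cT f c T) = cT f c T' := by
  rw [cT, cT, PicM.pull_pull, ← RigDesc27.XTmap_comp]
  rw [show g ≫ (Over.homMk T.hom (Category.comp_id _) : T ⟶ pt₁ Ω) = Over.homMk T'.hom (Category.comp_id _) from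
    Over.OverMorphism.ext (Over.w g)]

omit [IsAlgClosed Ω] [IsProper f] [SmoothOfRelativeDimension 1 f] [GeometricallyConnected f] in
theorem cT_pt (c : PicM (PicF.XT f (pt₁ Ω))) : cT f c (pt₁ Ω) = c := by
  rw [cT, show (Over.homMk (pt₁ Ω).hom (Category.comp_id _) : pt₁ Ω ⟶ pt₁ Ω) = 𝟙 _ from
    Over.OverMorphism.ext rfl, RigDesc27.XTmap_id, PicM.pull_id]

instance surjective_it {M : Type u} [AddCommGroup M] [Module Ω M] [Module Ωᵐᵒᵖ M] [IsCentralScalar Ω M] :
    Surjective (it Ω (K := Ω) M).left :=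
  surjective_spec_of_sq _ (fun (x : Ω) => ⟨(TrivSqZeroExt.inl x : TrivSqZeroExt Ω M), TrivSqZeroExt.fst_inl M x⟩) (by
    rw [pow_two, eq_bot_iff, Ideal.mul_le]
    intro x hx y hy
    replace hx : TrivSqZeroExt.fst x = (0 : Ω) := hx
    replace hy : TrivSqZeroExt.fst y = (0 : Ω) := hy
    rw [Ideal.mem_bot]
    ext <;> simp [hx, hy])

include hσ hP₀ in
/-- The data for the tangent space at the point classified by a rigidified class of degree zero. -/
theorem tanData (c : PicM (PicF.XT f (pt₁ Ω))) (hc0 : Dgz f c)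
    (hcσ : PicM.pull (PicF.secT f σ hσ (pt₁ Ω)) c = 1) : TanData Ω f (φc f φ₀ c) := by
  have hcT0 : ∀ T, Dgz f (cT f c T) := fun T => hc0.pull f _
  have hcTσ : ∀ T, PicM.pull (PicF.secT f σ hσ T) (cT f c T) = 1 := fun T => pull_secT_XTmap _ c hcσ
  have hdgz : ∀ {M : Type u} [AddCommGroup M] [Module Ω M] [Module Ωᵐᵒᵖ M] [IsCentralScalar Ω M]
      {a : PicM (PicF.XT f (T Ω Ω M))}, pc (it Ω M) a = 1 → Dgz f (a * cT f c _) := by
    intro M _ _ _ _ a ha
    refine dgz_of_pull_surj f (it Ω M) ?_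
    rw [map_mul, show PicM.pull (PicF.XTmap f (it Ω M)) a = 1 from ha, _root_.one_mul, pull_cT]
    exact hcT0 _
  have ha' := isIso_app_of_sec f σ hσ
  refine ⟨fun {M} _ _ _ _ {a} ha => ?_, fun {M N} _ _ _ _ _ _ _ _ ℓ {a} ha => ?_, fun v hv => ?_, fun {a} ha h => ?_⟩
  · rw [ψ_φc, ψ_φc, ← phi₀_pull f hP₀ (it Ω M) (hdgz ha), map_mul,
      show PicM.pull (PicF.XTmap f (it Ω M)) a = 1 from ha, _root_.one_mul, pull_cT, _root_.one_mul,
      ← phi₀_pull f hP₀ (m₀ Ω Ω) (hcT0 _), pull_cT]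
  · rw [ψ_φc, ψ_φc, ← phi₀_pull f hP₀ (tℓ Ω ℓ) (hdgz ha), map_mul, pull_cT]
  · obtain ⟨d, hd0, hdσ, hdv⟩ := exists_phi₀_eq (σ := σ) (hσ := hσ) f hP₀ ha' v
    obtain ⟨b, hb⟩ := PicM.exists_mul_eq_one (cT f c (T Ω Ω Ω))
    refine ⟨d * b, ?_, ?_⟩
    · have e : PicM.pull (PicF.XTmap f (it Ω Ω)) d = cT f c (T₀ Ω Ω) := by
        refine eq_of_phi₀_eq (σ := σ) (hσ := hσ) f hP₀ ha' _ _ (hd0.pull f _) (hcT0 _)
          (pull_secT_XTmap _ d hdσ) (hcTσ _) ?_
        rw [phi₀_pull f hP₀ _ hd0, hdv, hv, ψ_φc, _root_.one_mul, ← phi₀_pull f hP₀ (m₀ Ω Ω) (hcT0 _), pull_cT]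
      show PicM.pull (PicF.XTmap f (it Ω Ω)) (d * b) = 1
      rw [map_mul, e, ← pull_cT f c (it Ω Ω), ← map_mul, hb, map_one]
    · rw [ψ_φc, _root_.mul_assoc, mul_comm b, hb, _root_.mul_one, hdv]
  · haveI : IsLocalRing (DualNumber Ω) := inferInstance
    have hN : PicM.pull (PicF.secT f σ hσ (T Ω Ω Ω)) a = 1 :=
      H8Coh.JacobianTan.eq_one_of_local (DualNumber Ω) _
    rw [ψ_φc, ψ_φc] at h
    have e : a * cT f c _ = 1 * cT f c (T Ω Ω Ω) :=
      eq_of_phi₀_eq (σ := σ) (hσ := hσ) f hP₀ ha' _ _ (hdgz ha) (by rw [_root_.one_mul]; exact hcT0 _)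
        (by rw [map_mul, hN, hcTσ, _root_.one_mul]) (by rw [map_mul, map_one, hcTσ, _root_.one_mul]) h
    obtain ⟨b, hb⟩ := PicM.exists_mul_eq_one (cT f c (T Ω Ω Ω))
    have e2 := congrArg (· * b) e
    simpa only [_root_.mul_assoc, hb, _root_.mul_one] using e2

include hσ hP₀ in
/-- The dimension of the sheafified `Pic⁰` of a curve over an algebraically closed field. -/
theorem dim_zero [LocallyOfFinitePresentation P₀.hom]
    (hd : ∀ s : Spec (CommRingCat.of Ω), topologicalKrullDim ↥(f.fiber s) ≤ (1 : ℕ)) :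
    letI : X.Over (Spec (CommRingCat.of Ω)) := ⟨f⟩
    topologicalKrullDim P₀.left = (Module.finrank Ω (Coh.HH X (Coh.structureModule X) 1) : WithBot ℕ∞) := by
  letI : X.Over (Spec (CommRingCat.of Ω)) := ⟨f⟩
  haveI : IsSeparated (X ↘ Spec (CommRingCat.of Ω)) := inferInstanceAs (IsSeparated f)
  haveI : QuasiCompact (X ↘ Spec (CommRingCat.of Ω)) := inferInstanceAs (QuasiCompact f)
  haveI : Smooth P₀.hom := smooth_zero_of_section f hd σ hσ hP₀
  haveI : IsLocallyNoetherian P₀.left := LocallyOfFiniteType.isLocallyNoetherian P₀.hom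
  refine H8Coh.RatPointDim.topologicalKrullDim_eq P₀.hom _ ?_ fun s hs => ?_
  · exact ⟨(φ₀ (pt₁ Ω) (1 : PicM _).val).left, Over.w (φ₀ (pt₁ Ω) (1 : PicM _).val)⟩
  · let v : pt₁ Ω ⟶ P₀ := Over.homMk s hs
    obtain ⟨c, hc0, hcσ, hcv⟩ := exists_phi₀_eq (σ := σ) (hσ := hσ) f hP₀ (isIso_app_of_sec f σ hσ) v
    have ho : H8Coh.PicTangent.origin (φc f φ₀ c) = s := by
      show (ψ (φc f φ₀ c) (pt₁ Ω) 1).left = s
      rw [ψ_φc, _root_.one_mul, cT_pt, hcv]
      rfl
    subst ho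
    exact H8Coh.PicTangentDim.finrank_cotangent_eq_of_data (X := X) (K := Ω)
      (φ := φc f φ₀ c) (tanData f σ hσ hP₀ c hc0 hcσ)

end Field

end Groth.Agent.PicBC5
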